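import Groth.Agent.Def38.AffineSmooth
import Mathlib

/-! Morphisms of deformations of affine schemes, and flatness over square-zero Artin rings. -/

set_option autoImplicit false
set_option linter.style.haveILetI false
set_option backward.isDefEq.respectTransparency.types false

universe u

open CategoryTheory CategoryTheory.Limits AlgebraicGeometry
open ArtFun ArtFun.Art
open scoped TensorProduct

noncomputable section

namespace Groth.Agent.Def38

section Algebra

variable {R : Type u} [CommRing R] [IsLocalRing R] [IsArtinianRing R] {M N : Type u} [AddCommGroup M] [Module R M]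
  [AddCommGroup N] [Module R N]

/-- A map to a flat module which is bijective modulo the maximal ideal is bijective. -/
theorem bijective_of_fibre [Module.Flat R N] (f : M →ₗ[R] N)
    (hs : ∀ y, ∃ x, y - f x ∈ (IsLocalRing.maximalIdeal R • ⊤ : Submodule R N))
    (hi : ∀ x, f x ∈ (IsLocalRing.maximalIdeal R • ⊤ : Submodule R N) →
      x ∈ (IsLocalRing.maximalIdeal R • ⊤ : Submodule R M)) : Function.Bijective f := by
  set m := IsLocalRing.maximalIdeal R
  obtain ⟨n, hn⟩ := isNilpotent_maximalIdeal (R := R)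
  have hsurj : Function.Surjective f := by
    have step : (⊤ : Submodule R N) ≤ LinearMap.range f ⊔ m • ⊤ := fun y _ => by
      obtain ⟨x, hx⟩ := hs y
      exact Submodule.mem_sup.2 ⟨f x, ⟨x, rfl⟩, y - f x, hx, add_sub_cancel _ _⟩
    have hpow : ∀ j, (⊤ : Submodule R N) ≤ LinearMap.range f ⊔ (m ^ j) • ⊤ := fun j => by
      induction j with
      | zero => rw [pow_zero, Ideal.one_eq_top, Submodule.top_smul]; exact le_sup_right
      | succ j ih =>
        refine ih.trans (sup_le le_sup_left ((Submodule.smul_mono le_rfl step).trans ?_))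
        rw [Submodule.smul_sup, ← Submodule.mul_smul, ← pow_succ]
        exact sup_le_sup_right Submodule.smul_le_right _
    intro y
    have := hpow n (Submodule.mem_top (x := y))
    rwa [hn, Ideal.zero_eq_bot, Submodule.bot_smul, sup_bot_eq] at this
  refine ⟨?_, hsurj⟩
  have step : LinearMap.ker f ≤ m • LinearMap.ker f := fun x hx =>
    CAlg4.NilSurj.inf_smul_le m f hsurj ⟨hi x (by rw [LinearMap.mem_ker.1 hx]; exact zero_mem _), hx⟩
  have hpow : ∀ j, LinearMap.ker f ≤ (m ^ j) • LinearMap.ker f := fun j => by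
    induction j with
    | zero => simp
    | succ j ih =>
      refine ih.trans ((Submodule.smul_mono le_rfl step).trans ?_)
      rw [← Submodule.mul_smul, ← pow_succ]
  rw [← LinearMap.ker_eq_bot, eq_bot_iff]
  refine (hpow n).trans ?_
  rw [hn, Ideal.zero_eq_bot, Submodule.bot_smul]

variable {ι : Type} [Fintype ι]

/-- Flatness over a local ring whose maximal ideal has square zero and is spanned by `v`. -/
theorem flat_of_square_zero (v : ι → R) (hv : ∀ i, v i ∈ IsLocalRing.maximalIdeal R)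
    (hspan : IsLocalRing.maximalIdeal R ≤ Ideal.span (Set.range v)) (hsq : ∀ i j, v i * v j = 0)
    (h : ∀ x : ι → M, ∑ i, v i • x i = 0 → ∀ i, x i ∈ (IsLocalRing.maximalIdeal R • ⊤ : Submodule R M)) :
    Module.Flat R M := by
  set m := IsLocalRing.maximalIdeal R
  letI : Field (R ⧸ m) := Ideal.Quotient.field m
  haveI : Module.Free (R ⧸ m) ((R ⧸ m) ⊗[R] M) := Module.Free.of_divisionRing _ _
  haveI : Module.Flat (R ⧸ m) ((R ⧸ m) ⊗[R] M) := Module.Flat.of_free
  refine FlatNilCrit84.flat_of_nilpotent_injective isNilpotent_maximalIdeal M ?_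
  rw [injective_iff_map_eq_zero]
  intro z hz
  let e : ι → m := fun i => ⟨v i, hv i⟩
  have hkill : ∀ (a : m) (r : R), r ∈ m → r • a = 0 := fun a r hr => by
    refine Subtype.ext ?_
    show r * (a : R) = 0
    obtain ⟨c, hc⟩ := Ideal.mem_span_range_iff_exists_fun.1 (hspan hr)
    obtain ⟨d, hd⟩ := Ideal.mem_span_range_iff_exists_fun.1 (hspan a.2)
    rw [← hc, ← hd, Finset.sum_mul]
    exact Finset.sum_eq_zero fun i _ => by
      rw [Finset.mul_sum]
      exact Finset.sum_eq_zero fun j _ => by rw [mul_mul_mul_comm, hsq, mul_zero]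
  have hz' : ∃ x : ι → M, z = ∑ i, e i ⊗ₜ[R] x i := by
    clear hz
    induction z with
    | zero => exact ⟨0, by simp⟩
    | tmul a y =>
      obtain ⟨c, hc⟩ := Ideal.mem_span_range_iff_exists_fun.1 (hspan a.2)
      refine ⟨fun i => c i • y, ?_⟩
      have : a = ∑ i, c i • e i := Subtype.ext (by simp [e, ← hc])
      rw [this, TensorProduct.sum_tmul]
      exact Finset.sum_congr rfl fun i _ => TensorProduct.smul_tmul _ _ _
    | add a b ha hb =>
      obtain ⟨x, rfl⟩ := ha
      obtain ⟨y, rfl⟩ := hb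
      exact ⟨x + y, by simp [TensorProduct.tmul_add, Finset.sum_add_distrib]⟩
  obtain ⟨x, rfl⟩ := hz'
  have hx := h x (by
    have := congrArg (TensorProduct.lid R M) hz
    simpa [e, map_sum] using this)
  refine Finset.sum_eq_zero fun i _ => ?_
  refine Submodule.smul_induction_on (hx i) (fun r hr y _ => ?_) fun a b ha hb => by
    rw [TensorProduct.tmul_add, ha, hb, add_zero]
  rw [← TensorProduct.smul_tmul, hkill _ r hr, TensorProduct.zero_tmul]

end Algebra

variable {Λ k : Type u} [CommRing Λ] [Field k] [Algebra Λ k] {A B : Art Λ k} {A₀ : CommRingCat.{u}}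
  {x : Spec A₀ ⟶ specPt k}

/-- A deformation of an affine scheme is affine, flat over the base, with the expected special fibre. -/
theorem exists_chart (ξ : DefSch (Spec A₀) x A) :
    IsAffine ξ.total ∧ ∀ (_ : IsAffine ξ.total), ∃ (σ : CommRingCat.of A ⟶ Γ(ξ.total, ⊤)) (τ : Γ(ξ.total, ⊤) ⟶ A₀),
      Spec.map σ = ξ.total.isoSpec.inv ≫ ξ.f ∧ Spec.map τ = ξ.i ≫ ξ.total.isoSpec.hom ∧ σ.hom.Flat ∧
      Function.Surjective τ ∧ (∀ y, τ y = 0 ↔ y ∈ (IsLocalRing.maximalIdeal A).map σ.hom) := by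
  haveI : IsClosedImmersion (specRes A) := IsClosedImmersion.spec_of_surjective _ A.res_surjective
  haveI := surjective_specRes A
  haveI : IsClosedImmersion ξ.i := MorphismProperty.of_isPullback ξ.isPullback.flip ‹_›
  haveI : Surjective ξ.i := MorphismProperty.of_isPullback (P := @Surjective) ξ.isPullback.flip ‹_›
  haveI : IsAffine ξ.total := VarGal.isAffine_of_thickening ξ.i
  refine ⟨inferInstance, fun _ => ?_⟩
  let e := ξ.total.isoSpec
  obtain ⟨σ, hσ⟩ : ∃ σ : CommRingCat.of A ⟶ Γ(ξ.total, ⊤), Spec.map σ = e.inv ≫ ξ.f := ⟨_, Spec.map_preimage _⟩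
  obtain ⟨τ, hτ⟩ : ∃ τ : Γ(ξ.total, ⊤) ⟶ A₀, Spec.map τ = ξ.i ≫ e.hom := ⟨_, Spec.map_preimage _⟩
  obtain ⟨ψ, hψ⟩ : ∃ ψ : CommRingCat.of k ⟶ A₀, Spec.map ψ = x := ⟨_, Spec.map_preimage _⟩
  have hsq : IsPullback (Spec.map τ) (Spec.map ψ) (Spec.map σ) (specRes A) :=
    IsPullback.of_iso ξ.isPullback (Iso.refl _) e (Iso.refl _) (Iso.refl _) (by simp [hτ]) (by simp [hψ])
      (by simp [hσ]) (by simp)
  have hpo : IsPushout (CommRingCat.ofHom A.res.toRingHom) σ ψ τ := by
    have h3 : IsPullback (Scheme.Spec.map τ.op) (Scheme.Spec.map ψ.op)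
        (Scheme.Spec.map σ.op) (Scheme.Spec.map (CommRingCat.ofHom A.res.toRingHom).op) := hsq
    exact (IsPullback.of_map_of_faithful Scheme.Spec h3).unop
  refine ⟨σ, τ, hσ, hτ, (HasRingHomProperty.Spec_iff (P := @Flat)).1 (by rw [hσ]; infer_instance), fun z => ?_,
    fun y => ⟨fun hy => Ideal.map_mono (ker_res A).le (Pinch2.mem_map_ker_of_isPushout hpo A.res_surjective (y := y) hy),
      fun hy => ?_⟩⟩
  · refine induction_pushout hpo (motive := fun z => ∃ b, τ b = z) ⟨0, map_zero _⟩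
      (fun x y ⟨a, ha⟩ ⟨b, hb⟩ => ⟨a + b, by rw [map_add, ha, hb]⟩) (fun c b => ?_) z
    obtain ⟨a, ha⟩ := A.res_surjective c
    refine ⟨σ a * b, ?_⟩
    rw [map_mul, ← CommRingCat.comp_apply, ← hpo.w, CommRingCat.comp_apply]
    exact congrArg (fun c => ψ c * τ b) ha
  · have h : (IsLocalRing.maximalIdeal A).map σ.hom ≤ RingHom.ker τ.hom := Ideal.map_le_iff_le_comap.2 fun a ha => by
      show τ (σ a) = 0
      rw [← CommRingCat.comp_apply, ← hpo.w, CommRingCat.comp_apply]
      show ψ (A.res a) = 0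
      rw [(mem_maximalIdeal_iff A a).1 ha, map_zero]
    exact h hy

/-- A morphism of deformations of an affine scheme is an isomorphism. -/
theorem isIso_of_fibre {ξ η : DefSch (Spec A₀) x A} (c : ξ.total ⟶ η.total) (hf : c ≫ η.f = ξ.f)
    (hi : ξ.i ≫ c = η.i) : IsIso c := by
  obtain ⟨_, hξ⟩ := exists_chart ξ
  obtain ⟨_, hη⟩ := exists_chart η
  obtain ⟨σ, τ, hσ, hτ, hflat, hτs, hτk⟩ := hξ ‹_›
  obtain ⟨σ', τ', hσ', hτ', -, hτs', hτk'⟩ := hη ‹_›
  obtain ⟨q, hq⟩ : ∃ q : Γ(η.total, ⊤) ⟶ Γ(ξ.total, ⊤), Spec.map q = ξ.total.isoSpec.inv ≫ c ≫ η.total.isoSpec.hom :=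
    ⟨_, Spec.map_preimage _⟩
  have e₁ : σ' ≫ q = σ := Spec.map_injective (by
    rw [Spec.map_comp, hq, hσ, hσ', Category.assoc, Category.assoc, Iso.hom_inv_id_assoc, hf])
  have e₂ : q ≫ τ = τ' := Spec.map_injective (by
    rw [Spec.map_comp, hq, hτ, hτ', Category.assoc, Iso.hom_inv_id_assoc, reassoc_of% hi])
  haveI : IsIso q := by
    letI := σ.hom.toAlgebra
    letI := σ'.hom.toAlgebra
    haveI : Module.Flat A Γ(ξ.total, ⊤) := hflat
    let qa : Γ(η.total, ⊤) →ₐ[A] Γ(ξ.total, ⊤) := ⟨q.hom, fun a => congr($(e₁).hom a)⟩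
    have key : ∀ y : Γ(ξ.total, ⊤), y ∈ (IsLocalRing.maximalIdeal A • ⊤ : Submodule A Γ(ξ.total, ⊤)) ↔ τ y = 0 :=
      fun y => by rw [Ideal.smul_top_eq_map, Submodule.restrictScalars_mem, hτk]; rfl
    have key' : ∀ y : Γ(η.total, ⊤), y ∈ (IsLocalRing.maximalIdeal A • ⊤ : Submodule A Γ(η.total, ⊤)) ↔ τ' y = 0 :=
      fun y => by rw [Ideal.smul_top_eq_map, Submodule.restrictScalars_mem, hτk']; rfl
    refine (ConcreteCategory.isIso_iff_bijective q).2
      (bijective_of_fibre qa.toLinearMap (fun y => ?_) fun y hy => ?_)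
    · obtain ⟨z, hz⟩ := hτs' (τ y)
      refine ⟨z, (key _).2 ?_⟩
      show τ (y - q z) = 0
      rw [map_sub, ← CommRingCat.comp_apply, e₂, hz, sub_self]
    · refine (key' _).2 ?_
      rw [← e₂, CommRingCat.comp_apply]
      exact (key _).1 hy
  have : c = ξ.total.isoSpec.hom ≫ Spec.map q ≫ η.total.isoSpec.inv := by simp [hq]
  rw [this]
  infer_instance

/-- Any morphism over a morphism of test objects, compatible with the closed fibres, is cartesian. -/
theorem exists_arrow_of_hom {g : A ⟶ B} {ξ : DefSch (Spec A₀) x A} {η : DefSch (Spec A₀) x B}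
    (h : η.total ⟶ ξ.total) (w : h ≫ ξ.f = η.f ≫ specMap g) (hi : η.i ≫ h = ξ.i) :
    Nonempty (Arrow g ξ η) := by
  let c : η.total ⟶ (ξ.baseChange g).total := pullback.lift h η.f w
  have hc : c ≫ (ξ.baseChange g).f = η.f := pullback.lift_snd _ _ _
  haveI : IsIso c := isIso_of_fibre c hc (by
    apply pullback.hom_ext
    · rw [Category.assoc, pullback.lift_fst, hi, DefSch.baseChange_i_fst]
    · rw [Category.assoc, pullback.lift_snd, η.i_f, DefSch.baseChange_i_f])
  exact ⟨⟨h, IsPullback.of_iso_pullback ⟨w⟩ (asIso c) (pullback.lift_fst _ _ _) hc, hi⟩⟩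

end Groth.Agent.Def38
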