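import Groth.Agent.Def38.Arrow
import Groth.Agent.ArtF85.Cond
import Mathlib

/-! The conditions of the hull criterion for the deformation functor of a scheme. -/

set_option autoImplicit false
set_option linter.style.haveILetI false
set_option backward.isDefEq.respectTransparency.types false

universe u

open CategoryTheory CategoryTheory.Limits AlgebraicGeometry
open ArtFun ArtFun.Art

noncomputable section

namespace Groth.Agent.Def38

variable {Λ k : Type u} [CommRing Λ] [Field k] [Algebra Λ k] {X : Scheme.{u}} {x : X ⟶ specPt k}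
variable {A A' A₁ A₂ B D : Art Λ k}

theorem iso_ext {ξ η : DefSch X x A} {e e' : ξ.Iso η} (h : e.iso.hom = e'.iso.hom) : e = e' := by
  obtain ⟨i, _, _⟩ := e
  obtain ⟨j, _, _⟩ := e'
  obtain rfl : i = j := Iso.ext h
  rfl

/-- Postcomposition of an arrow with an isomorphism. -/
def Arrow.postcomp {g : A ⟶ B} {ξ ξ' : DefSch X x A} {η : DefSch X x B} (α : Arrow g ξ η) (e : ξ.Iso ξ') :
    Arrow g ξ' η :=
  ⟨α.hom ≫ e.iso.hom,
    IsPullback.of_iso α.isPullback (Iso.refl _) e.iso (Iso.refl _) (Iso.refl _)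
      (by simp) (by simp) (by simp [e.hom_f]) (by simp),
    by rw [← Category.assoc, α.i_hom, e.i_hom]⟩

@[simp] lemma Arrow.postcomp_hom {g : A ⟶ B} {ξ ξ' : DefSch X x A} {η : DefSch X x B} (α : Arrow g ξ η)
    (e : ξ.Iso ξ') : (α.postcomp e).hom = α.hom ≫ e.iso.hom := rfl

variable (X x) in
/-- Automorphisms of deformations lift along `p`. -/
def LiftsAut (p : A' ⟶ A) : Prop :=
  ∀ (ξ' : DefSch X x A') (ξ : DefSch X x A) (α : Arrow p ξ' ξ) (d : ξ.Iso ξ),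
    ∃ a : ξ'.Iso ξ', α.hom ≫ a.iso.hom = d.iso.hom ≫ α.hom

theorem liftsAut_iff (p : A' ⟶ A) :
    (∀ ξ' : DefSch X x A', Function.Surjective (fun e : ξ'.Iso ξ' => e.baseChange p)) ↔ LiftsAut X x p := by
  constructor
  · intro H ξ' ξ α d
    let c := α.isoOf (Arrow.canon ξ' p)
    have hc : c.iso.hom ≫ pullback.fst _ _ = α.hom := α.isoOf_hom (Arrow.canon ξ' p)
    obtain ⟨e, he⟩ := H ξ' (c.symm.trans (d.trans c))
    refine ⟨e, ?_⟩
    have h1 : (e.baseChange p).iso.hom ≫ pullback.fst ξ'.f (specMap p) =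
        pullback.fst ξ'.f (specMap p) ≫ e.iso.hom := DefSch.pullMap_fst e.iso.hom e.hom_f p
    rw [show e.baseChange p = _ from he] at h1
    rw [← hc, Category.assoc, ← h1]
    simp [DefSch.Iso.trans, DefSch.Iso.symm]
  · intro H ξ' d
    obtain ⟨a, ha⟩ := H ξ' _ (Arrow.canon ξ' p) d
    refine ⟨a, iso_ext (pullback.hom_ext ?_ ?_)⟩
    · exact (DefSch.pullMap_fst a.iso.hom a.hom_f p).trans ha
    · exact (DefSch.pullMap_snd a.iso.hom a.hom_f p).trans d.hom_f.symm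

theorem liftsAut_of_bijective (p : A' ⟶ A) (hp : Function.Bijective p) : LiftsAut X x p := by
  intro ξ' ξ α d
  haveI : IsIso (cr p) := (ConcreteCategory.isIso_iff_bijective _).2 hp
  haveI : IsIso (specMap p) := inferInstanceAs (IsIso (Spec.map (cr p)))
  haveI : IsIso α.hom := α.isPullback.isIso_fst_of_isIso
  refine ⟨⟨(asIso α.hom).symm ≪≫ d.iso ≪≫ asIso α.hom, ?_, ?_⟩, by simp⟩
  · simp only [Iso.trans_hom, Iso.symm_hom, asIso_inv, asIso_hom, Category.assoc]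
    rw [IsIso.inv_comp_eq, α.isPullback.w, reassoc_of% d.hom_f]
  · simp only [Iso.trans_hom, Iso.symm_hom, asIso_inv, asIso_hom]
    conv_lhs => rw [← α.i_hom]
    rw [Category.assoc, IsIso.hom_inv_id_assoc, ← Category.assoc, d.i_hom, α.i_hom]

theorem liftsAut_comp (g : A' ⟶ D) (f : D ⟶ A) (hg : LiftsAut X x g) (hf : LiftsAut X x f) :
    LiftsAut X x (g ≫ f) := by
  intro ξ' ξ α d
  obtain ⟨δ, hδ⟩ := Arrow.exists_lift α (Arrow.canon ξ' g)
  obtain ⟨b, hb⟩ := hf _ _ δ d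
  obtain ⟨a, ha⟩ := hg _ _ (Arrow.canon ξ' g) b
  exact ⟨a, by rw [← hδ, Category.assoc, ha, reassoc_of% hb]⟩

theorem liftsAut_of_small (H : ∀ (A' A : Art Λ k) (p : A' ⟶ A), IsSmallExt p → LiftsAut X x p)
    (p : A' ⟶ A) (hp : Function.Surjective p) : LiftsAut X x p :=
  ArtF85.surjective_induction (P := fun _ _ p => LiftsAut X x p) (fun _ _ p hp => liftsAut_of_bijective p hp)
    (fun _ _ _ g f hg _ hf => liftsAut_comp g f (H _ _ g hg) hf) p hp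

variable {p₁ : B ⟶ A₁} {p₂ : B ⟶ A₂} {f₁ : A₁ ⟶ A} {f₂ : A₂ ⟶ A}

theorem surjective_cmp (h : IsFibreProd p₁ p₂ f₁ f₂) (hf₂ : Function.Surjective f₂) :
    Function.Surjective (cmp (defFunctor X x) h) := by
  rw [ArtF85.surjective_cmp_iff]
  intro z₁ z₂ e
  obtain ⟨ξ₁, rfl⟩ := Quotient.exists_rep z₁
  obtain ⟨ξ₂, rfl⟩ := Quotient.exists_rep z₂
  obtain ⟨α₁⟩ := exists_arrow_of_map_cl (g := f₁) (ξ := ξ₁) (η := ξ₂.baseChange f₂)
    (e.trans (defFunctor_map_cl f₂ ξ₂))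
  obtain ⟨η, π₁, π₂, -⟩ := exists_glue_def h hf₂ α₁ (Arrow.canon ξ₂ f₂)
  exact ⟨η.cl, π₁.map_cl, π₂.map_cl⟩

/-- Injectivity of a comparison map, if the two identifications over the common quotient can be matched. -/
theorem injective_cmp_of_match (h : IsFibreProd p₁ p₂ f₁ f₂) (hf₂ : Function.Surjective f₂)
    (H : ∀ (ξ₂ : DefSch X x A₂) (ξ₀ : DefSch X x A) (α₂ : Arrow f₂ ξ₂ ξ₀) (η : DefSch X x B)
      (π₂ : Arrow p₂ η ξ₂) (γ : Arrow (p₂ ≫ f₂) η ξ₀),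
      ∃ a : ξ₂.Iso ξ₂, α₂.hom ≫ a.iso.hom ≫ π₂.hom = γ.hom) :
    Function.Injective (cmp (defFunctor X x) h) := by
  rw [ArtF85.injective_cmp_iff]
  intro z w e₁ e₂
  obtain ⟨η, rfl⟩ := Quotient.exists_rep z
  obtain ⟨η', rfl⟩ := Quotient.exists_rep w
  let π₁ := Arrow.canon η p₁
  let π₂ := Arrow.canon η p₂
  obtain ⟨π₁'⟩ := exists_arrow_of_map_cl (g := p₁) (ξ := η') (η := η.baseChange p₁)
    (e₁.symm.trans (defFunctor_map_cl p₁ η))
  obtain ⟨π₂'⟩ := exists_arrow_of_map_cl (g := p₂) (ξ := η') (η := η.baseChange p₂)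
    (e₂.symm.trans (defFunctor_map_cl p₂ η))
  let α₂ := Arrow.canon (η.baseChange p₂) f₂
  obtain ⟨α₁, hα₁⟩ := Arrow.exists_lift ((π₂.comp α₂).cast h.w.symm) π₁
  obtain ⟨a, ha⟩ := H _ _ α₂ η' π₂' ((π₁'.comp α₁).cast h.w)
  obtain ⟨e, -, -⟩ := nonempty_iso_of_arrows h hf₂ α₁ α₂ π₁ π₂ hα₁ π₁' (π₂'.precomp a) (by
    rw [Arrow.precomp_hom, ha]; rfl)
  exact Quotient.sound ⟨e⟩

theorem injective_cmp (h : IsFibreProd p₁ p₂ f₁ f₂) (hf₂ : Function.Surjective f₂) (H : LiftsAut X x f₂) :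
    Function.Injective (cmp (defFunctor X x) h) := by
  refine injective_cmp_of_match h hf₂ fun ξ₂ ξ₀ α₂ η π₂ γ => ?_
  obtain ⟨a, ha⟩ := H _ _ α₂ (γ.isoOf (π₂.comp α₂))
  refine ⟨a, ?_⟩
  rw [reassoc_of% ha]
  exact γ.isoOf_hom (π₂.comp α₂)

variable (X x) in
theorem s1 : S1 (defFunctor (Λ := Λ) X x) := fun _ _ _ _ _ _ _ _ h hf => surjective_cmp h hf

variable (X x) in
theorem heps : Heps (defFunctor (Λ := Λ) X x) := by
  intro B A' p' p'' h
  have hs : Function.Surjective (toBase (dual Λ k)) := (dual Λ k).res_surjective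
  refine ⟨injective_cmp_of_match h hs fun ξ₂ ξ₀ α₂ η π₂ γ => ⟨DefSch.Iso.refl _, ?_⟩, surjective_cmp h hs⟩
  simp only [DefSch.Iso.refl, Iso.refl_hom, Category.id_comp]
  exact hom_eq_of_base (π₂.comp α₂) γ

theorem flat_of_field (x : X ⟶ specPt k) : Flat x := by
  refine IsZariskiLocalAtSource.of_openCover X.affineCover fun i => ?_
  obtain ⟨φ, hφ⟩ : ∃ φ, Spec.map φ = X.affineCover.f i ≫ x := ⟨_, Spec.map_preimage _⟩
  show Flat (X.affineCover.f i ≫ x)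
  refine (congrArg (fun f => Flat f) hφ).mp ((HasRingHomProperty.Spec_iff (P := @Flat)).2 ?_)
  have key : ∀ (S : Type u) [CommRing S] (ψ : k →+* S), ψ.Flat := fun S _ ψ => by
    letI := ψ.toAlgebra
    exact (inferInstance : Module.Flat k S)
  exact key _ φ.hom

variable (X x) in
theorem h0 : H0 (defFunctor (Λ := Λ) X x) := by
  refine ⟨⟨(DefSch.self X x (flat_of_field x)).cl⟩, ⟨fun z w => ?_⟩⟩
  obtain ⟨ξ, rfl⟩ := Quotient.exists_rep z
  obtain ⟨η, rfl⟩ := Quotient.exists_rep w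
  haveI : IsIso ξ.i := ξ.isPullback.flip.isIso_snd_of_isIso
  haveI : IsIso η.i := η.isPullback.flip.isIso_snd_of_isIso
  refine Quotient.sound ⟨⟨(asIso ξ.i).symm ≪≫ asIso η.i, ?_, by simp⟩⟩
  simp [IsIso.inv_comp_eq, ξ.i_f, η.i_f]

variable [IsNoetherianRing Λ] [Module.Finite Λ k] in
theorem liftsAut_of_injective
    (H : ∀ ⦃B A A₁ A₂ : Art Λ k⦄ (p₁ : B ⟶ A₁) (p₂ : B ⟶ A₂) (f₁ : A₁ ⟶ A) (f₂ : A₂ ⟶ A)
        (h : IsFibreProd p₁ p₂ f₁ f₂), IsSmallExt f₂ → Function.Injective (cmp (defFunctor X x) h))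
    (p : A' ⟶ A) (hp : IsSmallExt p) : LiftsAut X x p := by
  intro ξ' ξ α d
  obtain ⟨B, p₁, p₂, h⟩ := ArtF85.exists_fibreProd p p hp.1
  obtain ⟨η, π₁, π₂, hπ⟩ := exists_glue_def h hp.1 α α
  obtain ⟨η', π₁', π₂', hπ'⟩ := exists_glue_def h hp.1 (α.precomp d) α
  obtain ⟨θ⟩ := Quotient.exact ((ArtF85.injective_cmp_iff h).1 (H p₁ p₂ p p h hp) η.cl η'.cl
    (π₁.map_cl.trans π₁'.map_cl.symm) (π₂.map_cl.trans π₂'.map_cl.symm))
  let a₁ := (π₁.postcomp θ).isoOf π₁'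
  let a₂ := (π₂.postcomp θ).isoOf π₂'
  have ha₁ : a₁.iso.hom ≫ π₁'.hom = π₁.hom ≫ θ.iso.hom := (π₁.postcomp θ).isoOf_hom π₁'
  have ha₂ : a₂.iso.hom ≫ π₂'.hom = π₂.hom ≫ θ.iso.hom := (π₂.postcomp θ).isoOf_hom π₂'
  let r₁ := (α.postcomp a₁).isoOf α
  let r₂ := (α.postcomp a₂).isoOf α
  have hr₁ : r₁.iso.hom ≫ α.hom = α.hom ≫ a₁.iso.hom := (α.postcomp a₁).isoOf_hom α
  have hr₂ : r₂.iso.hom ≫ α.hom = α.hom ≫ a₂.iso.hom := (α.postcomp a₂).isoOf_hom α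
  have key : r₁.iso.hom = r₂.iso.hom ≫ d.iso.hom := by
    refine (π₁'.comp α).hom_ext ?_ (by rw [Category.assoc, d.hom_f, r₁.hom_f, r₂.hom_f])
    simp only [Arrow.comp_hom, Category.assoc]
    rw [show d.iso.hom ≫ α.hom ≫ π₁'.hom = α.hom ≫ π₂'.hom by rw [← hπ', Arrow.precomp_hom, Category.assoc],
      reassoc_of% hr₁, reassoc_of% hr₂, ha₁, ha₂, reassoc_of% hπ]
  refine ⟨a₂.symm.trans a₁, ?_⟩
  have hinv : α.hom ≫ a₂.iso.inv = r₂.iso.inv ≫ α.hom := by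
    rw [Iso.comp_inv_eq, Category.assoc, ← hr₂, Iso.inv_hom_id_assoc]
  simp only [DefSch.Iso.trans, DefSch.Iso.symm, Iso.trans_hom, Iso.symm_hom]
  rw [reassoc_of% hinv, ← hr₁, key, Category.assoc, Iso.inv_hom_id_assoc]

end Groth.Agent.Def38
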