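import Groth.Agent.Def38.TangentFinite
import Groth.Agent.Def38.Functor
import Groth.Agent.ArtF85.Hull
import Mathlib

/-! Hulls for affine schemes with finitely many non-smooth points. -/

set_option autoImplicit false
set_option linter.style.haveILetI false
set_option backward.isDefEq.respectTransparency.types false

universe u

open CategoryTheory CategoryTheory.Limits AlgebraicGeometry
open ArtFun ArtFun.Art

noncomputable section

namespace Groth.Agent.Def38

variable {Λ k : Type u} [CommRing Λ] [Field k] [Algebra Λ k] {X X' : Scheme.{u}} {x : X ⟶ specPt k}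
  {x' : X' ⟶ specPt k}

/-- A deformation seen as a deformation of an isomorphic scheme. -/
def transport (e : X ≅ X') (he : e.hom ≫ x' = x) {A : Art Λ k} (ξ : DefSch X' x' A) : DefSch X x A where
  total := ξ.total
  f := ξ.f
  flat := ξ.flat
  i := e.hom ≫ ξ.i
  isPullback := IsPullback.of_iso ξ.isPullback e.symm (Iso.refl _) (Iso.refl _) (Iso.refl _) (by simp)
    (by simp [← he]) (by simp) (by simp)

/-- The induced morphism of deformation functors. -/
def transportNat (e : X ≅ X') (he : e.hom ≫ x' = x) :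
    defFunctor (Λ := Λ) X' x' ⟶ defFunctor (Λ := Λ) X x where
  app A := ↾Quotient.map' (fun ξ => transport e he ξ) fun ξ η ⟨j⟩ =>
    ⟨⟨j.iso, j.hom_f, by show (e.hom ≫ ξ.i) ≫ j.iso.hom = e.hom ≫ η.i; rw [Category.assoc, j.i_hom]⟩⟩
  naturality A B g := ConcreteCategory.hom_ext _ _ fun q => by
    induction q using Quotient.inductionOn with
    | h ξ =>
      let α : Arrow g (transport e he ξ) (transport e he (ξ.baseChange g)) :=
        ⟨(Arrow.canon ξ g).hom, (Arrow.canon ξ g).isPullback, by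
          show (e.hom ≫ (ξ.baseChange g).i) ≫ pullback.fst _ _ = e.hom ≫ ξ.i
          exact (Category.assoc _ _ _).trans (congrArg (e.hom ≫ ·) (Arrow.canon ξ g).i_hom)⟩
      exact α.map_cl.symm

theorem transportNat_surjective (e : X ≅ X') (he : e.hom ≫ x' = x) (A : Art Λ k) :
    Function.Surjective ((transportNat (Λ := Λ) e he).app A) := fun z => by
  obtain ⟨ξ, rfl⟩ := Quotient.exists_rep z
  have he' : e.symm.hom ≫ x = x' := by rw [← he]; simp
  refine ⟨(transport e.symm he' ξ).cl, Quotient.sound ⟨⟨Iso.refl _, ?_, ?_⟩⟩⟩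
  · exact Category.id_comp _
  · show (e.hom ≫ e.inv ≫ ξ.i) ≫ 𝟙 _ = ξ.i
    simp

variable {n : ℕ} {I : Ideal (Poly k n)}

/-- Finiteness of the tangent space in the affine case. -/
theorem hfin_of_finite_T1 [TangentStr (defFunctor (Λ := Λ) X x)] (hT : Module.Finite k (T1 I))
    (e : X ≅ Spec (CommRingCat.of (Poly k n ⧸ I))) (he : e.hom ≫ x₀ I = x) :
    Hfin (defFunctor (Λ := Λ) X x) := by
  letI : TangentStr (defFunctor (Λ := Λ) _ (x₀ I)) := ArtF85.tangentStrOf (h0 _ _) (heps _ _)
  obtain ⟨f, hf⟩ := ArtF85.exists_linearMap_tangentMap (h0 _ _) (heps _ _) (transportNat (Λ := Λ) e he)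
  let L := f.comp (tangentLinear (Λ := Λ) I)
  have hL : (LinearMap.range (delta I)).restrictScalars k ≤ LinearMap.ker L := by
    rintro _ ⟨v, rfl⟩
    show f (tangentLinear I (delta I v)) = 0
    rw [tangentLinear_apply, tangentClass_delta, ← tangentLinear_apply, map_zero, map_zero]
  let L' : T1 I →ₗ[k] TangentSpace (defFunctor (Λ := Λ) X x) :=
    (Submodule.liftQ _ L hL).comp (Submodule.Quotient.restrictScalarsEquiv k (LinearMap.range (delta I))).symm.toLinearMap
  haveI := hT
  refine Module.Finite.of_surjective L' fun z => ?_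
  obtain ⟨w, hw⟩ := transportNat_surjective (Λ := Λ) e he (dual Λ k) z
  obtain ⟨φ, hφ⟩ := tangentClass_surjective w
  refine ⟨Submodule.Quotient.mk φ, ?_⟩
  show f (tangentLinear I φ) = z
  rw [hf, tangentLinear_apply, hφ]
  exact hw

/-- An affine scheme of finite type is a closed subscheme of affine space. -/
theorem exists_presentation [IsAffine X] (x : X ⟶ specPt k) [LocallyOfFiniteType x] :
    ∃ (n : ℕ) (I : Ideal (Poly k n)) (e : X ≅ Spec (CommRingCat.of (Poly k n ⧸ I))), e.hom ≫ x₀ I = x := by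
  obtain ⟨ψ, hψ⟩ : ∃ ψ : CommRingCat.of k ⟶ Γ(X, ⊤), Spec.map ψ = X.isoSpec.inv ≫ x := ⟨_, Spec.map_preimage _⟩
  letI := ψ.hom.toAlgebra
  have hft : ψ.hom.FiniteType := (HasRingHomProperty.Spec_iff (P := @LocallyOfFiniteType)).1 (by rw [hψ]; infer_instance)
  haveI : Algebra.FiniteType k Γ(X, ⊤) := hft
  obtain ⟨n, π, hπ⟩ := Algebra.FiniteType.iff_quotient_mvPolynomial''.1 ‹Algebra.FiniteType k Γ(X, ⊤)›
  let ea := Ideal.quotientKerAlgEquivOfSurjective hπ
  let ec : CommRingCat.of (Poly k n ⧸ RingHom.ker π) ≅ Γ(X, ⊤) := ea.toRingEquiv.toCommRingCatIso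
  refine ⟨n, RingHom.ker π, X.isoSpec ≪≫ Scheme.Spec.mapIso ec.op, ?_⟩
  show (X.isoSpec.hom ≫ Spec.map ec.hom) ≫ Spec.map _ = x
  rw [Category.assoc, ← Spec.map_comp, ← X.isoSpec.hom_inv_id_assoc x, ← hψ]
  congr 2
  exact CommRingCat.hom_ext (RingHom.ext fun c => ea.commutes c)

/-- The non-smooth locus condition, in terms of localisations. -/
theorem finite_bad (e : X ≅ Spec (CommRingCat.of (Poly k n ⧸ I))) (he : e.hom ≫ x₀ I = x) (U : X.Opens)
    (hU : Smooth (U.ι ≫ x)) (hfin : ((U : Set X)ᶜ).Finite) :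
    {p : PrimeSpectrum (Poly k n ⧸ I) | ¬ ∃ g ∉ p.asIdeal,
      Algebra.FormallySmooth k (Localization.Away g)}.Finite := by
  refine (hfin.image e.hom).subset fun p hp => ⟨e.inv p, fun hpU => hp ?_, ?_⟩
  swap
  · show (e.inv ≫ e.hom) p = p
    rw [e.inv_hom_id]; rfl
  obtain ⟨V, hV, hg1, hg2⟩ := PrimeSpectrum.isTopologicalBasis_basic_opens.exists_subset_of_mem_open
    (show p ∈ e.inv ⁻¹' (U : Set X) from hpU) (U.2.preimage e.inv.continuous)
  obtain ⟨g, rfl⟩ := hV
  refine ⟨g, (PrimeSpectrum.mem_basicOpen g p).1 hg1, ?_⟩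
  let loc : CommRingCat.of (Poly k n ⧸ I) ⟶ CommRingCat.of (Localization.Away g) :=
    CommRingCat.ofHom (algebraMap (Poly k n ⧸ I) (Localization.Away g))
  haveI : IsOpenImmersion (Spec.map loc) := IsOpenImmersion.of_isLocalization g
  have hr : Set.range (Spec.map loc ≫ e.inv) ⊆ Set.range U.ι := by
    rw [Scheme.Opens.range_ι]
    rintro _ ⟨y, rfl⟩
    refine hg2 ?_
    exact (PrimeSpectrum.localization_away_comap_range (Localization.Away g) g).le ⟨y, rfl⟩
  let l := IsOpenImmersion.lift U.ι (Spec.map loc ≫ e.inv) hr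
  have hl : l ≫ U.ι = Spec.map loc ≫ e.inv := IsOpenImmersion.lift_fac _ _ _
  haveI : IsOpenImmersion (l ≫ U.ι) := by rw [hl]; infer_instance
  haveI : IsOpenImmersion l := IsOpenImmersion.of_comp l U.ι
  have hs : Smooth (Spec.map (CommRingCat.ofHom (algebraMap k (Localization.Away g)))) := by
    have : Spec.map (CommRingCat.ofHom (algebraMap k (Localization.Away g))) = l ≫ U.ι ≫ x := by
      rw [reassoc_of% hl, ← he, e.inv_hom_id_assoc, ← Spec.map_comp]
      exact congrArg Spec.map (CommRingCat.hom_ext (IsScalarTower.algebraMap_eq k (Poly k n ⧸ I) (Localization.Away g)))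
    rw [this]
    haveI := hU
    infer_instance
  have := (HasRingHomProperty.Spec_iff (P := @Smooth)).1 hs
  exact (RingHom.smooth_algebraMap.1 this).formallySmooth

/-- The hull. -/
theorem hasHull_affine (hk : Function.Surjective (algebraMap Λ k)) [IsLocalRing Λ] [IsNoetherianRing Λ]
    [IsAdicComplete (IsLocalRing.maximalIdeal Λ) Λ] [IsAffine X] [LocallyOfFiniteType x] (U : X.Opens)
    (hU : Smooth (U.ι ≫ x)) (hfin : ((U : Set X)ᶜ).Finite) : HasHull (defFunctor (Λ := Λ) X x) := by
  letI : TangentStr (defFunctor (Λ := Λ) X x) := ArtF85.tangentStrOf (h0 X x) (heps X x)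
  haveI := ArtF85.moduleFinite_of_surjective hk
  obtain ⟨n, I, e, he⟩ := exists_presentation x
  exact ArtF85.hasHull_of_conditions (ArtF85.subsingleton_derivation_of_surjective hk) (h0 X x) (s1 X x) (heps X x)
    (hfin_of_finite_T1 (finite_T1 (finite_bad e he U hU hfin)) e he)

end Groth.Agent.Def38
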