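import Groth.Agent.Def38.Koszul
import Groth.Agent.CAlg4.NilSurj
import Groth.Agent.Sga84.FlatNil
import Mathlib

/-! Flat lifts of local complete intersections along small extensions of Artinian local rings. -/

set_option autoImplicit false
set_option linter.style.haveILetI false

universe u

open TensorProduct MvPolynomial

namespace Groth.Agent.Def38

section Flat

variable {R : Type u} [CommRing R] [IsLocalRing R] [IsArtinianRing R]

lemma isNilpotent_maximalIdeal : IsNilpotent (IsLocalRing.maximalIdeal R) := by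
  have := IsArtinianRing.isNilpotent_jacobson_bot (R := R)
  rwa [IsLocalRing.jacobson_eq_maximalIdeal ⊥ bot_ne_top] at this

/-- Flatness of a quotient of a flat module by a submodule without extra relations modulo the maximal ideal. -/
theorem flat_of_inf_smul_le {M Q : Type u} [AddCommGroup M] [Module R M] [AddCommGroup Q] [Module R Q]
    [Module.Flat R M] (f : M →ₗ[R] Q) (hf : Function.Surjective f)
    (h : (IsLocalRing.maximalIdeal R • ⊤ : Submodule R M) ⊓ LinearMap.ker f ≤
      IsLocalRing.maximalIdeal R • LinearMap.ker f) : Module.Flat R Q := by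
  set m := IsLocalRing.maximalIdeal R
  letI : Field (R ⧸ m) := Ideal.Quotient.field m
  haveI : Module.Free (R ⧸ m) ((R ⧸ m) ⊗[R] Q) := Module.Free.of_divisionRing _ _
  haveI : Module.Flat (R ⧸ m) ((R ⧸ m) ⊗[R] Q) := Module.Flat.of_free
  refine FlatNilCrit84.flat_of_nilpotent_injective isNilpotent_maximalIdeal Q ?_
  let μ : ∀ (X : Type u) [AddCommGroup X] [Module R X], m ⊗[R] X →ₗ[R] X := fun X _ _ =>
    (TensorProduct.lid R X).toLinearMap ∘ₗ LinearMap.rTensor X m.subtype
  have hμ : ∀ (X : Type u) [AddCommGroup X] [Module R X] (a : m) (x : X), μ X (a ⊗ₜ x) = (a : R) • x :=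
    fun X _ _ a x => by simp [μ]
  have hcomm : ∀ {X Y : Type u} [AddCommGroup X] [Module R X] [AddCommGroup Y] [Module R Y]
      (g : X →ₗ[R] Y) (z : m ⊗[R] X), μ Y (LinearMap.lTensor m g z) = g (μ X z) := by
    intro X Y _ _ _ _ g z
    induction z with
    | zero => simp
    | tmul a x => simp [hμ]
    | add a b ha hb => simp [ha, hb]
  suffices Function.Injective (μ Q) from Function.Injective.of_comp this
  rw [injective_iff_map_eq_zero]
  intro z hz
  obtain ⟨y, rfl⟩ := LinearMap.lTensor_surjective m hf z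
  rw [hcomm] at hz
  have hy : μ M y ∈ (m • ⊤ : Submodule R M) := by
    clear hz
    induction y with
    | zero => simp
    | tmul a x => rw [hμ]; exact Submodule.smul_mem_smul a.2 trivial
    | add a b ha hb => rw [map_add]; exact add_mem ha hb
  obtain ⟨w, hw⟩ : μ M y ∈ LinearMap.range (μ M ∘ₗ LinearMap.lTensor m (LinearMap.ker f).subtype) := by
    refine Submodule.smul_induction_on (h ⟨hy, hz⟩) (fun a ha x hx => ⟨⟨a, ha⟩ ⊗ₜ ⟨x, hx⟩, ?_⟩)
      (fun a b ha hb => add_mem ha hb)
    simp [hμ]
  have hinj : Function.Injective (μ M) := (TensorProduct.lid R M).injective.comp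
    (Module.Flat.rTensor_preserves_injective_linearMap m.subtype Subtype.val_injective)
  rw [← hinj hw, ← LinearMap.lTensor_comp_apply, LinearMap.comp_ker_subtype, LinearMap.lTensor_zero,
    LinearMap.zero_apply]

/-- The kernel of a surjection between flat modules is flat. -/
theorem flat_ker {M Q : Type u} [AddCommGroup M] [Module R M] [AddCommGroup Q] [Module R Q]
    [Module.Flat R M] [Module.Flat R Q] (f : M →ₗ[R] Q) (hf : Function.Surjective f) :
    Module.Flat R (LinearMap.ker f) := by
  set m := IsLocalRing.maximalIdeal R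
  set N := LinearMap.ker f
  letI : Field (R ⧸ m) := Ideal.Quotient.field m
  haveI : Module.Free (R ⧸ m) ((R ⧸ m) ⊗[R] N) := Module.Free.of_divisionRing _ _
  haveI : Module.Flat (R ⧸ m) ((R ⧸ m) ⊗[R] N) := Module.Flat.of_free
  refine FlatNilCrit84.flat_of_nilpotent_injective isNilpotent_maximalIdeal N ?_
  have h1 : Function.Injective (N.subtype.lTensor m) :=
    LinearMap.lTensor_injective_of_exact_of_flat f hf _ N.subtype_injective (LinearMap.exact_subtype_ker_map f) m
  have h2 : Function.Injective (m.subtype.rTensor M) :=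
    Module.Flat.rTensor_preserves_injective_linearMap _ Subtype.val_injective
  have h3 : N.subtype.lTensor R ∘ₗ m.subtype.rTensor N = m.subtype.rTensor M ∘ₗ N.subtype.lTensor m := by
    rw [LinearMap.lTensor_comp_rTensor, LinearMap.rTensor_comp_lTensor]
  refine Function.Injective.of_comp (f := N.subtype.lTensor R) ?_
  rw [← LinearMap.coe_comp, h3, LinearMap.coe_comp]
  exact h2.comp h1

end Flat

section Smul

variable {R : Type u} [CommRing R] {σ : Type}

lemma smul_top_eq (m : Ideal R) :
    (m • ⊤ : Submodule R (MvPolynomial σ R)) = (m.map (C : R →+* MvPolynomial σ R)).restrictScalars R :=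
  Ideal.smul_top_eq_map m

lemma map_mul_le (m : Ideal R) (J : Ideal (MvPolynomial σ R)) :
    ((m.map (C : R →+* MvPolynomial σ R)) * J).restrictScalars R ≤ m • J.restrictScalars R := by
  intro y hy
  refine Submodule.mul_induction_on (Submodule.restrictScalars_mem _ _ _ |>.1 hy) (fun a ha b hb => ?_)
    (fun a b ha hb => add_mem ha hb)
  induction ha using Submodule.span_induction generalizing b with
  | mem a ha =>
    obtain ⟨r, hr, rfl⟩ := ha
    rw [← smul_eq_C_mul]
    exact Submodule.smul_mem_smul hr hb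
  | zero => rw [zero_mul]; exact zero_mem _
  | add a a' _ _ ha ha' => rw [add_mul]; exact add_mem (ha b hb) (ha' b hb)
  | smul c a _ ha =>
    rw [smul_eq_mul, mul_comm c, mul_assoc]
    exact ha (c * b) (J.mul_mem_left c hb)

end Smul

variable {A' A k : Type u} [CommRing A'] [IsLocalRing A'] [IsArtinianRing A'] [CommRing A] [IsLocalRing A]
  [IsArtinianRing A] [Field k] {σ : Type} [Finite σ]

theorem exists_flat_lift (p : A' →+* A) (hp : Function.Surjective p) (ρ : A →+* k) (hρ : Function.Surjective ρ)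
    (hρk : RingHom.ker ρ = IsLocalRing.maximalIdeal A) (hρk' : RingHom.ker (ρ.comp p) = IsLocalRing.maximalIdeal A')
    {t : A'} (ht0 : t ≠ 0) (hker : RingHom.ker p = Ideal.span {t})
    (htm : ∀ a ∈ IsLocalRing.maximalIdeal A', a * t = 0)
    (J : Ideal (MvPolynomial σ A)) [Module.Flat A (MvPolynomial σ A ⧸ J)]
    (hlci : LCI.IsKoszulRegularIdeal (J.map (map ρ))) :
    ∃ J' : Ideal (MvPolynomial σ A'), J'.map (map p) = J ∧ Module.Flat A' (MvPolynomial σ A' ⧸ J') := by
  classical
  let I : Ideal (MvPolynomial σ k) := J.map (map ρ)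
  let π : MvPolynomial σ A' →+* MvPolynomial σ A := map p
  let res : MvPolynomial σ A' →+* MvPolynomial σ k := map (ρ.comp p)
  have hπ : Function.Surjective π := map_surjective _ hp
  have hρ' : Function.Surjective (ρ.comp p) := hρ.comp hp
  have hres : Function.Surjective res := map_surjective _ hρ'
  have hresπ : ∀ z, res z = map ρ (π z) := fun z => (map_map p ρ z).symm
  have htres : res (C t) = 0 := by
    have : p t = 0 := RingHom.mem_ker.1 (hker ▸ Ideal.mem_span_singleton_self t)
    simp [res, this]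
  have hann : ∀ z, C t * z = 0 → res z = 0 := fun z hz => by
    ext d
    rw [coeff_map, coeff_zero, ← RingHom.mem_ker, hρk']
    by_contra hu
    have hu' : IsUnit (coeff d z) := not_not.1 hu
    refine ht0 (hu'.mul_left_eq_zero.1 ?_)
    rw [← coeff_C_mul, hz, coeff_zero]
  have hkill : ∀ z, res z = 0 → C t * z = 0 := fun z hz => by
    ext d
    rw [coeff_C_mul, coeff_zero, mul_comm]
    refine htm _ ?_
    rw [← hρk', RingHom.mem_ker, ← coeff_map]
    show coeff d (res z) = 0
    rw [hz, coeff_zero]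
  have hkπ : ∀ z, π z = 0 → ∃ w, z = C t * w := fun z hz => by
    have h1 : z ∈ RingHom.ker π := hz
    rw [MvPolynomial.ker_map, hker, Ideal.map_span, Set.image_singleton, Ideal.mem_span_singleton'] at h1
    obtain ⟨w, hw⟩ := h1
    exact ⟨w, by rw [← hw, mul_comm]⟩
  -- generators
  obtain ⟨n, f, hf⟩ : ∃ (n : ℕ) (f : Fin n → MvPolynomial σ k), Ideal.span (Set.range f) = I :=
    Submodule.fg_iff_exists_fin_generating_family.1 (LCI19.isKoszulRegularIdeal_fg hlci)
  have hF : ∀ i, ∃ F ∈ J, map ρ F = f i := fun i =>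
    (Ideal.mem_map_iff_of_surjective _ (map_surjective _ hρ)).1 (show f i ∈ I from hf ▸ Ideal.subset_span ⟨i, rfl⟩)
  choose F hFJ hFf using hF
  let m : Ideal A := IsLocalRing.maximalIdeal A
  let mP : Ideal (MvPolynomial σ A) := m.map (C : A →+* MvPolynomial σ A)
  have hmP : ∀ z, z ∈ mP ↔ map ρ z = 0 := fun z => by
    show z ∈ m.map C ↔ z ∈ RingHom.ker (map ρ)
    rw [MvPolynomial.ker_map, hρk]
  let qJ : MvPolynomial σ A →ₗ[A] MvPolynomial σ A ⧸ J := (Ideal.Quotient.mkₐ A J).toLinearMap
  have hqJ : Function.Surjective qJ := Ideal.Quotient.mk_surjective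
  have hkerqJ : LinearMap.ker qJ = J.restrictScalars A := by
    ext z
    exact Ideal.Quotient.eq_zero_iff_mem
  have hJm : ∀ z ∈ J, map ρ z = 0 → z ∈ mP * J := fun z hz hz0 => by
    have h1 := CAlg4.NilSurj.inf_smul_le m qJ hqJ ⟨by rw [smul_top_eq]; exact (hmP z).2 hz0, by rw [hkerqJ]; exact hz⟩
    rw [hkerqJ] at h1
    refine Submodule.smul_induction_on h1 (fun a ha b hb => ?_) (fun a b ha hb => add_mem ha hb)
    rw [smul_eq_C_mul]
    exact Ideal.mul_mem_mul (Ideal.mem_map_of_mem _ ha) hb
  have hspan : J = Ideal.span (Set.range F) := by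
    refine le_antisymm ?_ (Ideal.span_le.2 fun _ ⟨i, hi⟩ => hi ▸ hFJ i)
    have step : J ≤ Ideal.span (Set.range F) ⊔ mP * J := by
      intro z hz
      have h1 : map ρ z ∈ Ideal.span (Set.range f) := hf ▸ Ideal.mem_map_of_mem _ hz
      obtain ⟨c, hc⟩ := Ideal.mem_span_range_iff_exists_fun.1 h1
      choose c' hc' using fun i => map_surjective (σ := σ) ρ hρ (c i)
      have hs : ∑ i, c' i * F i ∈ Ideal.span (Set.range F) :=
        Ideal.sum_mem _ fun i _ => Ideal.mul_mem_left _ _ (Ideal.subset_span ⟨i, rfl⟩)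
      refine Submodule.mem_sup.2 ⟨_, hs, z - ∑ i, c' i * F i, hJm _ ?_ ?_, add_sub_cancel _ _⟩
      · exact J.sub_mem hz (Ideal.sum_mem _ fun i _ => J.mul_mem_left _ (hFJ i))
      · simp [map_sum, hc', hFf, hc]
    have hpow : ∀ j, J ≤ Ideal.span (Set.range F) ⊔ mP ^ j * J := fun j => by
      induction j with
      | zero => rw [pow_zero, Ideal.one_eq_top, Ideal.top_mul]; exact le_sup_right
      | succ j ih =>
        refine ih.trans (sup_le le_sup_left ((Ideal.mul_mono_right step).trans ?_))
        rw [Ideal.mul_sup, ← mul_assoc, ← pow_succ]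
        exact sup_le_sup_right Ideal.mul_le_right _
    obtain ⟨N, hN⟩ := isNilpotent_maximalIdeal (R := A)
    refine (hpow N).trans ?_
    rw [← Ideal.map_pow, hN, Ideal.zero_eq_bot, Ideal.map_bot, Ideal.bot_mul, sup_bot_eq]
  -- relations lift over `A`
  have hrel : ∀ r ∈ rel f, ∃ rA ∈ rel F, ∀ i, map ρ (rA i) = r i := fun r hr => by
    choose r' hr' using fun i => map_surjective (σ := σ) ρ hρ (r i)
    have h1 : ∑ i, r' i * F i ∈ mP • Ideal.span (Set.range F) := by
      rw [smul_eq_mul, ← hspan]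
      refine hJm _ (Ideal.sum_mem _ fun i _ => J.mul_mem_left _ (hFJ i)) ?_
      simp [map_sum, hr', hFf, mem_rel.1 hr]
    obtain ⟨e, he, hsum⟩ := (Submodule.mem_ideal_smul_span_iff_exists_sum _ _ _).1 h1
    rw [Finsupp.sum_fintype _ _ (by simp)] at hsum
    simp only [smul_eq_mul] at hsum
    exact ⟨fun i => r' i - e i, mem_rel.2 (by simp [sub_mul, hsum]), fun i => by
      rw [map_sub, hr', (hmP _).1 (he i), sub_zero]⟩
  -- relations over `A` vanishing modulo the maximal ideal
  let Φ : (Fin n → MvPolynomial σ A) →ₗ[A] LinearMap.ker qJ :=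
    ((Fintype.linearCombination (MvPolynomial σ A) F).restrictScalars A).codRestrict _ fun v => by
      rw [hkerqJ]
      show Fintype.linearCombination (MvPolynomial σ A) F v ∈ J
      rw [Fintype.linearCombination_apply]
      exact Ideal.sum_mem _ fun i _ => J.mul_mem_left _ (hFJ i)
  have hΦ : ∀ v, (Φ v : MvPolynomial σ A) = ∑ i, v i * F i := fun v => by
    show Fintype.linearCombination (MvPolynomial σ A) F v = _
    simp [Fintype.linearCombination_apply]
  have hΦs : Function.Surjective Φ := fun ⟨z, hz⟩ => by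
    have hz' : z ∈ Ideal.span (Set.range F) := by rw [← hspan]; rwa [hkerqJ] at hz
    obtain ⟨c, hc⟩ := Ideal.mem_span_range_iff_exists_fun.1 hz'
    exact ⟨c, Subtype.ext ((hΦ c).trans hc)⟩
  haveI : Module.Flat A (LinearMap.ker qJ) := flat_ker qJ hqJ
  have hrelm : ∀ d ∈ rel F, (∀ i, map ρ (d i) = 0) → d ∈ m • LinearMap.ker Φ := fun d hd hd0 => by
    refine CAlg4.NilSurj.inf_smul_le m Φ hΦs ⟨?_, Subtype.ext ((hΦ d).trans (mem_rel.1 hd))⟩
    have hi : ∀ i, d i ∈ (m • ⊤ : Submodule A (MvPolynomial σ A)) := fun i => by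
      rw [smul_top_eq]; exact (hmP _).2 (hd0 i)
    have : d = ∑ i, (LinearMap.single A (fun _ : Fin n => MvPolynomial σ A) i) (d i) := by
      funext j; simp [Finset.sum_apply, Pi.single_apply]
    rw [this]
    refine Submodule.sum_mem _ fun i _ => ?_
    have := Submodule.mem_map_of_mem (f := LinearMap.single A (fun _ : Fin n => MvPolynomial σ A) i) (hi i)
    rw [Submodule.map_smul''] at this
    exact Submodule.smul_mono le_rfl le_top this
  -- lifts of the generators
  choose F' hF' using fun i => hπ (F i)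
  have hF'f : ∀ i, res (F' i) = f i := fun i => by rw [hresπ, hF', hFf]
  -- the obstruction
  let Good : rel f → MvPolynomial σ k → Prop := fun r z => ∃ (r' : Fin n → MvPolynomial σ A') (z' : MvPolynomial σ A'),
    (∀ i, res (r' i) = r.1 i) ∧ res z' = z ∧ ∑ i, r' i * F' i = C t * z'
  have hGood : ∀ r, ∃ z, Good r z := fun r => by
    obtain ⟨rA, hrA, hrA'⟩ := hrel r.1 r.2
    choose r' hr' using fun i => hπ (rA i)
    obtain ⟨w, hw⟩ := hkπ (∑ i, r' i * F' i) (by simp [map_sum, hr', hF', mem_rel.1 hrA])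
    exact ⟨res w, r', w, fun i => by rw [hresπ, hr', hrA'], rfl, hw⟩
  have hzero : ∀ d ∈ m • LinearMap.ker Φ, ∃ e : Fin n → MvPolynomial σ A',
      (∀ i, π (e i) = d i) ∧ ∑ i, e i * F' i = 0 := by
    intro d hd
    refine Submodule.smul_induction_on hd (fun a ha v hv => ?_) ?_
    · obtain ⟨a', rfl⟩ := hp a
      choose v' hv' using fun i => hπ (v i)
      obtain ⟨w, hw⟩ := hkπ (∑ i, v' i * F' i) (by
        simp [map_sum, hv', hF', ← hΦ, show Φ v = 0 from hv])
      refine ⟨fun i => C a' * v' i, fun i => by simp [π, smul_eq_C_mul, ← hv' i], ?_⟩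
      simp only [mul_assoc, ← Finset.mul_sum, hw]
      rw [← mul_assoc, ← map_mul, htm a' (by rw [← hρk', RingHom.mem_ker]; exact RingHom.mem_ker.1 (show p a' ∈ RingHom.ker ρ by rw [hρk]; exact ha)), map_zero, zero_mul]
    · rintro a b ⟨e, he, he0⟩ ⟨e', he', he0'⟩
      exact ⟨e + e', fun i => by simp [he, he'], by simp [add_mul, Finset.sum_add_distrib, he0, he0']⟩
  have huniq : ∀ r z₁ z₂, Good r z₁ → Good r z₂ → z₁ - z₂ ∈ I := by
    rintro r z₁ z₂ ⟨r₁, w₁, h1, rfl, e1⟩ ⟨r₂, w₂, h2, rfl, e2⟩
    have hd : (fun i => π (r₁ i - r₂ i)) ∈ m • LinearMap.ker Φ := by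
      refine hrelm _ (mem_rel.2 ?_) fun i => by rw [← hresπ, map_sub, h1, h2, sub_self]
      have h3 : π (∑ i, (r₁ i - r₂ i) * F' i) = π (C t * (w₁ - w₂)) := by
        simp only [sub_mul, Finset.sum_sub_distrib, e1, e2, mul_sub]
      have h4 : π (C t) = 0 := by
        show map p (C t) = 0
        rw [map_C, show p t = 0 from RingHom.mem_ker.1 (hker ▸ Ideal.mem_span_singleton_self t), map_zero]
      simpa [map_sum, hF', h4] using h3
    obtain ⟨e, he, he0⟩ := hzero _ hd
    choose g hg using fun i => hkπ (r₁ i - r₂ i - e i) (by rw [map_sub, he, sub_self])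
    have h5 : C t * (w₁ - w₂ - ∑ i, g i * F' i) = 0 := by
      have h6 : ∑ i, (r₁ i - r₂ i - e i) * F' i = C t * ∑ i, g i * F' i := by
        simp only [hg, mul_assoc, ← Finset.mul_sum]
      simp only [sub_mul, Finset.sum_sub_distrib, e1, e2, he0, sub_zero] at h6
      rw [mul_sub, mul_sub, h6, sub_self]
    have h6 := hann _ h5
    rw [map_sub, map_sub, map_sum, sub_eq_zero] at h6
    rw [h6, ← hf]
    exact Ideal.sum_mem _ fun i _ => by
      rw [map_mul, hF'f]; exact Ideal.mul_mem_left _ _ (Ideal.subset_span ⟨i, rfl⟩)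
  choose z hz using hGood
  have hphi : ∀ r w, Good r w → Ideal.Quotient.mk I (z r) = Ideal.Quotient.mk I w := fun r w hw =>
    Ideal.Quotient.eq.2 (huniq r _ _ (hz r) hw)
  let φ : rel f →ₗ[MvPolynomial σ k] MvPolynomial σ k ⧸ I :=
    { toFun := fun r => Ideal.Quotient.mk I (z r)
      map_add' := fun r s => by
        obtain ⟨r', w, h1, h2, h3⟩ := hz r
        obtain ⟨s', v, g1, g2, g3⟩ := hz s
        rw [← map_add]
        exact hphi _ _ ⟨r' + s', w + v, fun i => by simp [h1, g1], by simp [h2, g2],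
          by simp [add_mul, Finset.sum_add_distrib, h3, g3, mul_add]⟩
      map_smul' := fun a r => by
        obtain ⟨a', rfl⟩ := hres a
        obtain ⟨r', w, h1, h2, h3⟩ := hz r
        rw [RingHom.id_apply]
        refine Eq.trans ?_ (Submodule.Quotient.mk_smul I (res a') (z r))
        exact hphi _ _ ⟨a' • r', a' * w, fun i => by simp [h1], by simp [h2],
          by simp only [Pi.smul_apply, smul_eq_mul, mul_assoc, ← Finset.mul_sum, h3]; ring⟩ }
  obtain ⟨ψ, hψ⟩ := exists_extension hlci f hf φ fun i j => by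
    show Ideal.Quotient.mk I (z _) = 0
    rw [← map_zero (Ideal.Quotient.mk I)]
    exact hphi _ _ ⟨kosVec F' i j, 0, fun l => by simp [kosVec, Pi.single_apply, apply_ite res, hF'f], map_zero _,
      by rw [mul_zero]; exact linearCombination_kosVec F' i j⟩
  choose ψk hψk using fun i => Ideal.Quotient.mk_surjective (ψ i)
  choose ψ' hψ' using fun i => hres (ψk i)
  let G : Fin n → MvPolynomial σ A' := fun i => F' i - C t * ψ' i
  have hGπ : ∀ i, π (G i) = F i := fun i => by
    simp [G, π, show p t = 0 from RingHom.mem_ker.1 (hker ▸ Ideal.mem_span_singleton_self t)]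
    exact hF' i
  have hG : ∀ i, res (G i) = f i := fun i => by rw [hresπ, hGπ, hFf]
  have hrel' : ∀ r ∈ rel f, ∃ r' ∈ rel G, ∀ i, res (r' i) = r i := fun r hr => by
    obtain ⟨r', w, h1, h2, h3⟩ := hz ⟨r, hr⟩
    have h4 : z ⟨r, hr⟩ - ∑ i, r i * ψk i ∈ I := by
      rw [← Ideal.Quotient.eq_zero_iff_mem, map_sub, sub_eq_zero, map_sum]
      refine (hψ ⟨r, hr⟩).trans (Finset.sum_congr rfl fun i _ => ?_)
      rw [← hψk i, map_mul]
      rfl
    rw [← hf, Ideal.mem_span_range_iff_exists_fun] at h4
    obtain ⟨e, he⟩ := h4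
    choose e' he' using fun i => hres (e i)
    refine ⟨fun i => r' i - C t * e' i, mem_rel.2 ?_, fun i => by simp [h1, htres]⟩
    have h5 : C t * (w - ∑ i, r' i * ψ' i - ∑ i, e' i * G i) = 0 := hkill _ (by
      simp only [map_sub, map_sum, map_mul, h1, h2, hψ', he', hG, he, sub_self])
    calc ∑ i, (r' i - C t * e' i) * G i
        = ∑ i, r' i * F' i - C t * ∑ i, r' i * ψ' i - C t * ∑ i, e' i * G i := by
          simp only [G, Finset.mul_sum, ← Finset.sum_sub_distrib]
          exact Finset.sum_congr rfl fun i _ => by ring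
      _ = 0 := by rw [h3, ← mul_sub, ← mul_sub, h5]
  refine ⟨Ideal.span (Set.range G), ?_, ?_⟩
  · rw [Ideal.map_span, ← Set.range_comp, hspan]
    exact congrArg (fun g => Ideal.span (Set.range g)) (funext hGπ)
  · let m' : Ideal A' := IsLocalRing.maximalIdeal A'
    refine flat_of_inf_smul_le (M := MvPolynomial σ A') (Ideal.Quotient.mkₐ A' (Ideal.span (Set.range G))).toLinearMap
      Ideal.Quotient.mk_surjective ?_
    rintro y ⟨hy1, hy2⟩
    have hk : LinearMap.ker (Ideal.Quotient.mkₐ A' (Ideal.span (Set.range G))).toLinearMap =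
        (Ideal.span (Set.range G)).restrictScalars A' := by
      ext w; exact Ideal.Quotient.eq_zero_iff_mem
    rw [hk]
    rw [SetLike.mem_coe, hk] at hy2
    refine map_mul_le m' _ ?_
    obtain ⟨c, hc⟩ := Ideal.mem_span_range_iff_exists_fun.1 hy2
    have hy0 : res y = 0 := by
      have : y ∈ RingHom.ker res := by
        rw [show res = map (ρ.comp p) from rfl, MvPolynomial.ker_map, hρk']
        rw [SetLike.mem_coe, smul_top_eq] at hy1
        exact hy1
      exact this
    obtain ⟨r', hr', hrr⟩ := hrel' (fun i => res (c i)) (mem_rel.2 (by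
      rw [← hc, map_sum] at hy0
      simpa [hG] using hy0))
    have : y = ∑ i, (c i - r' i) * G i := by simp [sub_mul, mem_rel.1 hr', hc]
    rw [this, Submodule.restrictScalars_mem]
    refine Ideal.sum_mem _ fun i _ => Ideal.mul_mem_mul ?_ (Ideal.subset_span ⟨i, rfl⟩)
    rw [show m' = RingHom.ker (ρ.comp p) from hρk'.symm, ← MvPolynomial.ker_map, RingHom.mem_ker]
    show res _ = 0
    rw [map_sub, hrr, sub_self]

end Groth.Agent.Def38
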