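import Groth.Agent.Def38.Functor
import Groth.Agent.Def38.LCIFlat
import Groth.Agent.VarGal.Thickening
import Mathlib

/-! Deformations of affine local complete intersections extend along small extensions. -/

set_option autoImplicit false
set_option linter.style.haveILetI false
set_option backward.isDefEq.respectTransparency.types false

universe u

open CategoryTheory CategoryTheory.Limits AlgebraicGeometry
open ArtFun ArtFun.Art

noncomputable section

namespace Groth.Agent.Def38

variable {Λ k : Type u} [CommRing Λ] [Field k] [Algebra Λ k] {A' A : Art Λ k}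

lemma ker_res (A : Art Λ k) : RingHom.ker A.res.toRingHom = IsLocalRing.maximalIdeal A :=
  Ideal.ext fun a => (mem_maximalIdeal_iff A a).symm

lemma surjective_specRes (A : Art Λ k) : Surjective (specRes A) := ⟨fun x => by
  have hr := range_comap_of_surjective _ A.res.toRingHom A.res_surjective
  obtain ⟨y, hy⟩ : x ∈ Set.range (PrimeSpectrum.comap A.res.toRingHom) := by
    rw [hr]
    intro a ha
    obtain ⟨n, hn⟩ := isNilpotent_maximalIdeal (R := A)
    have h1 : a ^ n ∈ IsLocalRing.maximalIdeal A ^ n := Ideal.pow_mem_pow ((ker_res A).le ha) n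
    rw [hn, Ideal.zero_eq_bot, Ideal.mem_bot] at h1
    exact x.isPrime.mem_of_pow_mem n (h1 ▸ zero_mem _)
  exact ⟨y, hy⟩⟩

variable {A₀ : Type u} [CommRing A₀] [Algebra k A₀]

/-- The structure morphism of an affine `k`-scheme. -/
abbrev str (k A₀ : Type u) [Field k] [CommRing A₀] [Algebra k A₀] : Spec (CommRingCat.of A₀) ⟶ specPt k :=
  Spec.map (CommRingCat.ofHom (algebraMap k A₀))

theorem exists_extension_small (p : A' ⟶ A) (hp : IsSmallExt p) (hA : LCI.IsLCI k A₀)
    (ξ : DefSch (Spec (CommRingCat.of A₀)) (str k A₀) A) :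
    ∃ ξ' : DefSch (Spec (CommRingCat.of A₀)) (str k A₀) A', Nonempty (Arrow p ξ' ξ) := by
  haveI : IsClosedImmersion (specRes A) := IsClosedImmersion.spec_of_surjective _ A.res_surjective
  haveI := surjective_specRes A
  haveI : IsClosedImmersion ξ.i := MorphismProperty.of_isPullback ξ.isPullback.flip ‹_›
  haveI : Surjective ξ.i := MorphismProperty.of_isPullback (P := @Surjective) ξ.isPullback.flip ‹_›
  haveI : IsAffine ξ.total := VarGal.isAffine_of_thickening ξ.i
  let e := ξ.total.isoSpec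
  let B : CommRingCat.{u} := Γ(ξ.total, ⊤)
  obtain ⟨σ, hσ⟩ : ∃ σ : CommRingCat.of A ⟶ B, Spec.map σ = e.inv ≫ ξ.f := ⟨_, Spec.map_preimage _⟩
  obtain ⟨τ, hτ⟩ : ∃ τ : B ⟶ CommRingCat.of A₀, Spec.map τ = ξ.i ≫ e.hom := ⟨_, Spec.map_preimage _⟩
  have hsq : IsPullback (Spec.map τ) (str k A₀) (Spec.map σ) (specRes A) :=
    IsPullback.of_iso ξ.isPullback (Iso.refl _) e (Iso.refl _) (Iso.refl _) (by simp [hτ]) (by simp)
      (by simp [hσ]) (by simp)
  have hpo : IsPushout (CommRingCat.ofHom A.res.toRingHom) σ (CommRingCat.ofHom (algebraMap k A₀)) τ := by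
    have h3 : IsPullback (Scheme.Spec.map τ.op) (Scheme.Spec.map (CommRingCat.ofHom (algebraMap k A₀)).op)
        (Scheme.Spec.map σ.op) (Scheme.Spec.map (CommRingCat.ofHom A.res.toRingHom).op) := hsq
    exact (IsPullback.of_map_of_faithful Scheme.Spec h3).unop
  have hτs : Function.Surjective τ := fun z => by
    refine induction_pushout hpo (motive := fun z => ∃ b, τ b = z) ⟨0, map_zero _⟩
      (fun x y ⟨a, ha⟩ ⟨b, hb⟩ => ⟨a + b, by rw [map_add, ha, hb]⟩) (fun c b => ?_) z
    obtain ⟨a, ha⟩ := A.res_surjective c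
    refine ⟨σ a * b, ?_⟩
    rw [map_mul, ← CommRingCat.comp_apply, ← hpo.w, CommRingCat.comp_apply]
    exact congrArg (fun c => algebraMap k A₀ c * τ b) ha
  obtain ⟨-, n, f, hfs, hreg⟩ := hA
  choose b hb using fun i => hτs (f (MvPolynomial.X i))
  let ev : MvPolynomial (Fin n) A →+* B := MvPolynomial.eval₂Hom σ.hom b
  have hevC : ∀ a, ev (MvPolynomial.C a) = σ a := fun a => MvPolynomial.eval₂Hom_C _ _ _
  have hτev : τ.hom.comp ev = f.toRingHom.comp (MvPolynomial.map A.res.toRingHom) := by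
    refine MvPolynomial.ringHom_ext (fun a => ?_) fun i => ?_
    · simp only [RingHom.comp_apply, hevC, MvPolynomial.map_C]
      exact (congr($(hpo.w).hom a).symm).trans (f.commutes _).symm
    · simp only [RingHom.comp_apply, ev, MvPolynomial.eval₂Hom_X', MvPolynomial.map_X]
      exact hb i
  have hkerτ : ∀ y : B, τ y = 0 → y ∈ (IsLocalRing.maximalIdeal A).map σ.hom := fun y hy =>
    Ideal.map_mono (ker_res A).le
      (Pinch2.mem_map_ker_of_isPushout hpo A.res_surjective (y := y) hy)
  have hmaps : Function.Surjective (MvPolynomial.map (σ := Fin n) A.res.toRingHom) :=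
    MvPolynomial.map_surjective _ A.res_surjective
  have hev : Function.Surjective ev := by
    have step : ∀ y : B, ∃ z, y - ev z ∈ (IsLocalRing.maximalIdeal A).map σ.hom := fun y => by
      obtain ⟨w, hw⟩ := hfs (τ y)
      obtain ⟨z, rfl⟩ := hmaps w
      refine ⟨z, hkerτ _ ?_⟩
      rw [map_sub, sub_eq_zero, ← hw]
      exact (RingHom.congr_fun hτev z).symm
    have hj : ∀ j : ℕ, ∀ y : B, ∃ z, y - ev z ∈ ((IsLocalRing.maximalIdeal A) ^ j).map σ.hom := fun j => by
      induction j with
      | zero => exact fun y => ⟨0, by rw [pow_zero, Ideal.one_eq_top, Ideal.map_top]; trivial⟩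
      | succ j ih =>
        intro y
        obtain ⟨z, hz⟩ := ih y
        suffices ∀ x ∈ ((IsLocalRing.maximalIdeal A) ^ j).map σ.hom, ∀ c, ∃ u,
            c * x - ev u ∈ ((IsLocalRing.maximalIdeal A) ^ (j + 1)).map σ.hom by
          obtain ⟨u, hu⟩ := this _ hz 1
          exact ⟨z + u, by rwa [map_add, ← sub_sub, ← one_mul (y - ev z)]⟩
        intro x hx
        induction hx using Submodule.span_induction with
        | mem x hx =>
          obtain ⟨i, hi, rfl⟩ := hx
          intro c
          obtain ⟨v, hv⟩ := step c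
          refine ⟨MvPolynomial.C i * v, ?_⟩
          rw [map_mul, hevC, show c * σ.hom i - σ i * ev v = (c - ev v) * σ.hom i by ring, pow_succ', Ideal.map_mul]
          exact Ideal.mul_mem_mul hv (Ideal.mem_map_of_mem _ hi)
        | zero => exact fun c => ⟨0, by rw [mul_zero, map_zero, sub_zero]; exact Ideal.zero_mem _⟩
        | add x x' _ _ hx hx' =>
          intro c
          obtain ⟨u, hu⟩ := hx c
          obtain ⟨v, hv⟩ := hx' c
          exact ⟨u + v, by rw [mul_add, map_add, add_sub_add_comm]; exact Ideal.add_mem _ hu hv⟩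
        | smul r x _ hx => exact fun c => by simpa [mul_assoc] using hx (c * r)
    obtain ⟨N, hN⟩ := isNilpotent_maximalIdeal (R := A)
    intro y
    obtain ⟨z, hz⟩ := hj N y
    rw [hN, Ideal.zero_eq_bot, Ideal.map_bot, Ideal.mem_bot, sub_eq_zero] at hz
    exact ⟨z, hz.symm⟩
  let J : Ideal (MvPolynomial (Fin n) A) := RingHom.ker ev
  have hJ : J.map (MvPolynomial.map A.res.toRingHom) = RingHom.ker f.toRingHom := by
    refine le_antisymm (Ideal.map_le_iff_le_comap.2 fun z hz => ?_) fun w hw => ?_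
    · show f.toRingHom (MvPolynomial.map A.res.toRingHom z) = 0
      rw [← RingHom.comp_apply, ← hτev, RingHom.comp_apply, show ev z = 0 from hz, map_zero]
    · obtain ⟨z, rfl⟩ := hmaps w
      have h1 : ev z ∈ (IsLocalRing.maximalIdeal A).map σ.hom := hkerτ _ ((RingHom.congr_fun hτev z).trans hw)
      rw [show σ.hom = ev.comp MvPolynomial.C from RingHom.ext fun a => (hevC a).symm, ← Ideal.map_map,
        Ideal.mem_map_iff_of_surjective _ hev] at h1
      obtain ⟨e', he', hee⟩ := h1
      have h2 : MvPolynomial.map A.res.toRingHom e' = 0 := by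
        rw [← ker_res, ← MvPolynomial.ker_map] at he'
        exact he'
      have h3 : MvPolynomial.map A.res.toRingHom (z - e') ∈ J.map (MvPolynomial.map A.res.toRingHom) :=
        Ideal.mem_map_of_mem _ (show ev (z - e') = 0 by rw [map_sub, hee, sub_self])
      rwa [map_sub, h2, sub_zero] at h3
  haveI : Module.Flat A (MvPolynomial (Fin n) A ⧸ J) := by
    have hflat : σ.hom.Flat := (HasRingHomProperty.Spec_iff (P := @Flat)).1 (by rw [hσ]; infer_instance)
    letI := σ.hom.toAlgebra
    haveI : Module.Flat A B := hflat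
    let g : MvPolynomial (Fin n) A →ₐ[A] B := ⟨ev, hevC⟩
    exact Module.Flat.of_linearEquiv (Ideal.quotientKerAlgEquivOfSurjective (f := g) hev).toLinearEquiv
  obtain ⟨t, ht0, hker, hmax⟩ : ∃ t : A', t ≠ 0 ∧ RingHom.ker p.toAlgHom.toRingHom = Ideal.span {t} ∧
      ∀ a ∈ IsLocalRing.maximalIdeal A', a * t = 0 := by
    obtain ⟨t, ht0, htk, htm⟩ := ArtF85.exists_generator hp
    exact ⟨t, ht0, htk, htm⟩
  obtain ⟨J', hJ', hflat'⟩ := exists_flat_lift (A' := A') (A := A) p.toAlgHom.toRingHom hp.1 A.res.toRingHom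
    A.res_surjective (ker_res A) (by rw [show A.res.toRingHom.comp p.toAlgHom.toRingHom = A'.res.toRingHom from
      RingHom.ext fun a => res_app p a]; exact ker_res A') ht0 hker hmax J (hJ.symm ▸ hreg)
  let π : MvPolynomial (Fin n) A' →+* MvPolynomial (Fin n) A := MvPolynomial.map p.toAlgHom.toRingHom
  let B' : CommRingCat.{u} := CommRingCat.of (MvPolynomial (Fin n) A' ⧸ J')
  let σ' : CommRingCat.of A' ⟶ B' := CommRingCat.ofHom ((Ideal.Quotient.mk J').comp MvPolynomial.C)
  let q : B' ⟶ B := CommRingCat.ofHom (Ideal.Quotient.lift J' (ev.comp π) fun z hz =>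
    show π z ∈ J from hJ'.le (Ideal.mem_map_of_mem _ hz))
  have hq : ∀ z, q (Ideal.Quotient.mk J' z) = ev (π z) := fun z => Ideal.Quotient.lift_mk _ _ _
  have hπs : Function.Surjective π := MvPolynomial.map_surjective _ hp.1
  have hqs : Function.Surjective q := fun y => by
    obtain ⟨z, rfl⟩ := hev y
    obtain ⟨w, rfl⟩ := hπs z
    exact ⟨_, hq w⟩
  have hw : cr p ≫ σ = σ' ≫ q := CommRingCat.hom_ext (RingHom.ext fun a => by
    refine Eq.trans ?_ (hq (MvPolynomial.C a)).symm
    simp only [π, MvPolynomial.map_C, hevC]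
    rfl)
  have hpo' : IsPushout (cr p) σ' σ q := Pinch2.isPushout_of_surjective hw hp.1 hqs fun y hy => by
    obtain ⟨z, rfl⟩ := Ideal.Quotient.mk_surjective y
    rw [hq] at hy
    obtain ⟨j, hj, hjz⟩ := (Ideal.mem_map_iff_of_surjective _ hπs).1 (hJ'.symm.le (show π z ∈ J from hy))
    have h1 : z - j ∈ RingHom.ker π := by rw [RingHom.mem_ker, map_sub, hjz, sub_self]
    rw [show RingHom.ker π = (RingHom.ker p.toAlgHom.toRingHom).map MvPolynomial.C from MvPolynomial.ker_map _] at h1
    have h2 := Ideal.mem_map_of_mem (Ideal.Quotient.mk J') h1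
    rw [Ideal.map_map, map_sub, Ideal.Quotient.eq_zero_iff_mem.2 hj, sub_zero] at h2
    exact h2
  haveI : Flat (Spec.map σ') := (HasRingHomProperty.Spec_iff (P := @Flat)).2 (by
    have : σ'.hom = algebraMap A' (MvPolynomial (Fin n) A' ⧸ J') := rfl
    rw [this]
    exact RingHom.flat_algebraMap_iff.2 hflat')
  have sq : IsPullback (e.hom ≫ Spec.map q) ξ.f (Spec.map σ') (specMap p) :=
    IsPullback.of_iso (isPullback_SpecMap_of_isPushout _ _ _ _ hpo').flip e.symm (Iso.refl _) (Iso.refl _) (Iso.refl _)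
      (by simp) (by simp [hσ]) (by simp) (by simp)
  exact ⟨⟨Spec B', Spec.map σ', inferInstance, ξ.i ≫ e.hom ≫ Spec.map q,
    by rw [← specRes_comp p]; exact ξ.isPullback.paste_horiz sq⟩, ⟨⟨_, sq, rfl⟩⟩⟩

theorem isSmoothFunctor_of_isLCI (hA : LCI.IsLCI k A₀) :
    IsSmoothFunctor (defFunctor (Λ := Λ) (Spec (CommRingCat.of A₀)) (str k A₀)) := by
  intro B A μ hμ
  refine ArtF85.surjective_induction (P := fun _ _ μ => Function.Surjective
    ((defFunctor (Λ := Λ) (Spec (CommRingCat.of A₀)) (str k A₀)).map μ))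
    (fun _ _ g hg => (ArtF85.map_bijective _ g hg).2) (fun C D E g h hg _ ih z => ?_) μ hμ
  obtain ⟨y, rfl⟩ := ih z
  obtain ⟨ξ, rfl⟩ := Quotient.exists_rep y
  obtain ⟨ξ', ⟨α⟩⟩ := exists_extension_small g hg hA ξ
  refine ⟨ξ'.cl, ?_⟩
  rw [← ArtF85.map_map, α.map_cl]
  rfl

end Groth.Agent.Def38
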