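import Groth.Agent.Def38.Glue
import Groth.Agent.S0433
import Groth.Agent.ArtF85.Basic
import Groth.Prelude.Def_ArtFun4
import Mathlib

/-! Cartesian morphisms of deformations of a scheme, and their gluing over fibre products of Artin rings. -/

set_option autoImplicit false
set_option linter.style.haveILetI false
set_option backward.isDefEq.respectTransparency.types false

universe u

open CategoryTheory CategoryTheory.Limits AlgebraicGeometry
open ArtFun ArtFun.Art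

noncomputable section

namespace Groth.Agent.Def38

variable {Λ k : Type u} [CommRing Λ] [Field k] [Algebra Λ k] {X : Scheme.{u}} {x : X ⟶ specPt k}
variable {A A₁ A₂ B C : Art Λ k}

/-- A morphism of deformations lying over a morphism of test objects. -/
structure Arrow (g : A ⟶ B) (ξ : DefSch X x A) (η : DefSch X x B) where
  hom : η.total ⟶ ξ.total
  isPullback : IsPullback hom η.f ξ.f (specMap g)
  i_hom : η.i ≫ hom = ξ.i

namespace Arrow

variable {g : A ⟶ B} {h : B ⟶ C} {ξ ξ' : DefSch X x A} {η η' : DefSch X x B} {ζ : DefSch X x C}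

/-- The projection of a base change. -/
def canon (ξ : DefSch X x A) (g : A ⟶ B) : Arrow g ξ (ξ.baseChange g) :=
  ⟨pullback.fst _ _, IsPullback.of_hasPullback _ _, DefSch.baseChange_i_fst ξ g⟩

@[simp] lemma canon_hom (ξ : DefSch X x A) (g : A ⟶ B) : (canon ξ g).hom = pullback.fst _ _ := rfl

/-- Composition. -/
def comp (α : Arrow g ξ η) (β : Arrow h η ζ) : Arrow (g ≫ h) ξ ζ :=
  ⟨β.hom ≫ α.hom, by rw [specMap_comp]; exact β.isPullback.paste_horiz α.isPullback,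
    by rw [← Category.assoc, β.i_hom, α.i_hom]⟩

@[simp] lemma comp_hom (α : Arrow g ξ η) (β : Arrow h η ζ) : (α.comp β).hom = β.hom ≫ α.hom := rfl

/-- Change of the map of test objects along an equality. -/
def cast {g' : A ⟶ B} (α : Arrow g ξ η) (e : g = g') : Arrow g' ξ η :=
  ⟨α.hom, e ▸ α.isPullback, α.i_hom⟩

@[simp] lemma cast_hom {g' : A ⟶ B} (α : Arrow g ξ η) (e : g = g') : (α.cast e).hom = α.hom := rfl

/-- Precomposition with an isomorphism. -/
def precomp (α : Arrow g ξ η) (e : η'.Iso η) : Arrow g ξ η' :=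
  ⟨e.iso.hom ≫ α.hom,
    IsPullback.of_iso α.isPullback e.iso.symm (Iso.refl _) (Iso.refl _) (Iso.refl _)
      (by simp) (by rw [Iso.symm_hom, Iso.refl_hom, Category.comp_id, Iso.eq_inv_comp, e.hom_f]) (by simp) (by simp),
    by rw [← Category.assoc, e.i_hom, α.i_hom]⟩

@[simp] lemma precomp_hom (α : Arrow g ξ η) (e : η'.Iso η) : (α.precomp e).hom = e.iso.hom ≫ α.hom := rfl

lemma hom_ext (α : Arrow g ξ η) {T : Scheme.{u}} {a b : T ⟶ η.total} (h₁ : a ≫ α.hom = b ≫ α.hom)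
    (h₂ : a ≫ η.f = b ≫ η.f) : a = b := α.isPullback.hom_ext h₁ h₂

/-- Two deformations lying cartesianly over the same one are isomorphic. -/
def isoOf (α : Arrow g ξ η) (β : Arrow g ξ η') : η.Iso η' where
  iso := IsPullback.isoIsPullback _ _ α.isPullback β.isPullback
  hom_f := IsPullback.isoIsPullback_hom_snd _ _ _ _
  i_hom := β.hom_ext (by rw [Category.assoc, IsPullback.isoIsPullback_hom_fst, α.i_hom, β.i_hom])
    (by rw [Category.assoc, IsPullback.isoIsPullback_hom_snd, η.i_f, η'.i_f])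

lemma isoOf_hom (α : Arrow g ξ η) (β : Arrow g ξ η') : (α.isoOf β).iso.hom ≫ β.hom = α.hom :=
  IsPullback.isoIsPullback_hom_fst _ _ _ _

/-- Factorisation through an intermediate deformation. -/
theorem exists_lift (γ : Arrow (g ≫ h) ξ ζ) (β : Arrow g ξ η) : ∃ δ : Arrow h η ζ, δ.hom ≫ β.hom = γ.hom := by
  have w : γ.hom ≫ ξ.f = (ζ.f ≫ specMap h) ≫ specMap g := by
    rw [γ.isPullback.w, specMap_comp, Category.assoc]
  let d := β.isPullback.lift γ.hom (ζ.f ≫ specMap h) w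
  refine ⟨⟨d, ?_, ?_⟩, β.isPullback.lift_fst _ _ _⟩
  · refine IsPullback.of_right ?_ (β.isPullback.lift_snd _ _ _) β.isPullback
    rw [β.isPullback.lift_fst, ← specMap_comp]
    exact γ.isPullback
  · refine β.hom_ext (by rw [Category.assoc, β.isPullback.lift_fst, γ.i_hom, β.i_hom]) ?_
    rw [Category.assoc, β.isPullback.lift_snd, η.i_f, ← Category.assoc, ζ.i_f, Category.assoc, specRes_comp]

/-- An arrow is an isomorphism class identification of the base change. -/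
theorem map_cl (α : Arrow g ξ η) : (defFunctor X x).map g ξ.cl = η.cl :=
  (defFunctor_map_cl g ξ).trans (Quotient.sound ⟨(canon ξ g).isoOf α⟩)

end Arrow

theorem exists_arrow_of_map_cl {g : A ⟶ B} {ξ : DefSch X x A} {η : DefSch X x B}
    (e : (defFunctor X x).map g ξ.cl = η.cl) : Nonempty (Arrow g ξ η) := by
  rw [defFunctor_map_cl] at e
  obtain ⟨j⟩ := Quotient.exact e
  exact ⟨(Arrow.canon ξ g).precomp j.symm⟩

/-- Over the residue field there is no room: morphisms into a given deformation are unique. -/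
theorem hom_eq_of_base {g : A ⟶ base Λ k} {ξ : DefSch X x A} {η : DefSch X x (base Λ k)} (α β : Arrow g ξ η) :
    α.hom = β.hom := by
  haveI : IsIso η.i := η.isPullback.flip.isIso_snd_of_isIso
  rw [← cancel_epi η.i, α.i_hom, β.i_hom]

variable {p₁ : B ⟶ A₁} {p₂ : B ⟶ A₂} {f₁ : A₁ ⟶ A} {f₂ : A₂ ⟶ A}

/-- A morphism of test objects as a morphism of rings. -/
abbrev cr {A B : Art Λ k} (g : A ⟶ B) : CommRingCat.of A ⟶ CommRingCat.of B := CommRingCat.ofHom g.toAlgHom.toRingHom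

theorem fibProp (h : IsFibreProd p₁ p₂ f₁ f₂) : Pinch2.FibProp (cr p₂) (cr p₁) (cr f₂) (cr f₁) :=
  ⟨fun s t e₂ e₁ => h.inj s t e₁ e₂, fun a₂ a₁ e => by
    obtain ⟨b, h₁, h₂⟩ := h.surj a₁ a₂ e.symm
    exact ⟨b, h₂, h₁⟩⟩

theorem cr_w (h : IsFibreProd p₁ p₂ f₁ f₂) : cr p₂ ≫ cr f₂ = cr p₁ ≫ cr f₁ :=
  CommRingCat.hom_ext (RingHom.ext fun b => (h.w_apply b).symm)

theorem isNilpotent_ker {A B : Art Λ k} (f : B ⟶ A) : IsNilpotent (RingHom.ker (cr f).hom) := by
  obtain ⟨n, hn⟩ := ArtF85.exists_pow_maximalIdeal_eq_bot (A := B)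
  refine ⟨n, le_bot_iff.1 (le_trans (Ideal.pow_right_mono (fun b hb => ?_) n) hn.le)⟩
  exact ArtF85.ker_le_maximalIdeal f hb

/-- Gluing of deformations. -/
theorem exists_glue_def (h : IsFibreProd p₁ p₂ f₁ f₂) (hf₂ : Function.Surjective f₂) {ξ₁ : DefSch X x A₁}
    {ξ₂ : DefSch X x A₂} {ξ₀ : DefSch X x A} (α₁ : Arrow f₁ ξ₁ ξ₀) (α₂ : Arrow f₂ ξ₂ ξ₀) :
    ∃ (η : DefSch X x B) (π₁ : Arrow p₁ η ξ₁) (π₂ : Arrow p₂ η ξ₂), α₁.hom ≫ π₁.hom = α₂.hom ≫ π₂.hom := by
  obtain ⟨T, q, π₁, π₂, hq, hpo, sq₁, sq₂⟩ :=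
    exists_glue (cr_w h) (fibProp h) hf₂ (isNilpotent_ker f₂) α₁.isPullback α₂.isPullback
  refine ⟨⟨T, q, hq, ξ₁.i ≫ π₁, ?_⟩, ⟨π₁, sq₁, rfl⟩, ⟨π₂, sq₂, ?_⟩, hpo.w.symm⟩
  · rw [← specRes_comp p₁]
    exact ξ₁.isPullback.paste_horiz sq₁
  · show ξ₂.i ≫ π₂ = ξ₁.i ≫ π₁
    rw [← α₁.i_hom, ← α₂.i_hom, Category.assoc, Category.assoc, hpo.w]

theorem isPushout_spec (h : IsFibreProd p₁ p₂ f₁ f₂) (hf₂ : Function.Surjective f₂) :
    IsPushout (specMap f₂) (specMap f₁) (specMap p₂) (specMap p₁) := by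
  let c : CommRingCat.of B ⟶ pullback (cr f₁) (cr f₂) := pullback.lift (cr p₁) (cr p₂) (cr_w h).symm
  have hc₁ : c ≫ pullback.fst (cr f₁) (cr f₂) = cr p₁ := pullback.lift_fst _ _ _
  have hc₂ : c ≫ pullback.snd (cr f₁) (cr f₂) = cr p₂ := pullback.lift_snd _ _ _
  haveI : IsIso c := by
    refine (ConcreteCategory.isIso_iff_bijective c).2 ⟨fun a b e => h.inj a b ?_ ?_, fun y => ?_⟩
    · change cr p₁ a = cr p₁ b
      rw [← hc₁, CommRingCat.comp_apply, CommRingCat.comp_apply, e]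
    · change cr p₂ a = cr p₂ b
      rw [← hc₂, CommRingCat.comp_apply, CommRingCat.comp_apply, e]
    · obtain ⟨b, h₁, h₂⟩ := h.surj (pullback.fst (cr f₁) (cr f₂) y) (pullback.snd (cr f₁) (cr f₂) y) (by
        show cr f₁ _ = cr f₂ _
        rw [← CommRingCat.comp_apply, ← CommRingCat.comp_apply, pullback.condition])
      have e₁ : pullback.fst (cr f₁) (cr f₂) (c b) = pullback.fst (cr f₁) (cr f₂) y := by
        rw [← CommRingCat.comp_apply, hc₁]; exact h₁
      have e₂ : pullback.snd (cr f₁) (cr f₂) (c b) = pullback.snd (cr f₁) (cr f₂) y := by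
        rw [← CommRingCat.comp_apply, hc₂]; exact h₂
      refine ⟨b, Concrete.limit_ext (cospan (cr f₁) (cr f₂)) _ _ ?_⟩
      rintro (_ | _ | _)
      · rw [← limit.w (cospan (cr f₁) (cr f₂)) WalkingCospan.Hom.inl, CommRingCat.comp_apply, CommRingCat.comp_apply]
        exact congrArg _ e₁
      · exact e₁
      · exact e₂
  haveI : IsIso (Spec.map c) := inferInstance
  refine IsPushout.of_iso (S0433.result f₂.toAlgHom.toRingHom hf₂ f₁.toAlgHom.toRingHom)
    (Iso.refl _) (Iso.refl _) (Iso.refl _) (asIso (Spec.map c)) (by simp; rfl) (by simp; rfl) ?_ ?_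
  · rw [Iso.refl_hom, Category.id_comp, asIso_hom, ← Spec.map_comp]; exact congrArg Spec.map hc₂
  · rw [Iso.refl_hom, Category.id_comp, asIso_hom, ← Spec.map_comp]; exact congrArg Spec.map hc₁

theorem hasPairs_spec (hf₂ : Function.Surjective f₂) : Pinch2.HasPairs (specMap f₂) (specMap f₁) := by
  haveI : IsClosedImmersion (specMap f₂) := IsClosedImmersion.spec_of_surjective _ hf₂
  let π₀ : Pinch2.Pair (specMap f₂) (specMap f₁) := ⟨⊤, ⊤, isAffineOpen_top _, isAffineOpen_top _, by simp⟩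
  exact ⟨fun _ => ⟨π₀, trivial⟩, fun _ => ⟨π₀, trivial⟩⟩

/-- A deformation over the fibre product is the pushout of its restrictions. -/
theorem isPushout_of_arrows (h : IsFibreProd p₁ p₂ f₁ f₂) (hf₂ : Function.Surjective f₂) {ξ₁ : DefSch X x A₁}
    {ξ₂ : DefSch X x A₂} {ξ₀ : DefSch X x A} {η : DefSch X x B} (α₁ : Arrow f₁ ξ₁ ξ₀) (α₂ : Arrow f₂ ξ₂ ξ₀)
    (π₁ : Arrow p₁ η ξ₁) (π₂ : Arrow p₂ η ξ₂) (hπ : α₁.hom ≫ π₁.hom = α₂.hom ≫ π₂.hom) :
    IsPushout α₂.hom α₁.hom π₂.hom π₁.hom := by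
  haveI : IsClosedImmersion (specMap f₂) := IsClosedImmersion.spec_of_surjective _ hf₂
  haveI : IsAffineHom (specMap p₁) := inferInstance
  haveI : IsAffineHom (specMap p₂) := inferInstance
  exact Pinch2.isPushout_baseChange_of_flat (i := specMap f₂) (j := specMap f₁) (a := specMap p₂) (b := specMap p₁)
    (r := 𝟙 _) (g := η.f) (rT := 𝟙 η.total)
    (IsPullback.of_vert_isIso ⟨by simp⟩) π₂.isPullback.flip π₁.isPullback.flip α₂.isPullback.flip
    α₁.isPullback.w hπ.symm (hasPairs_spec hf₂) (isPushout_spec h hf₂) (Or.inl inferInstance)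

/-- A deformation over the fibre product is determined by its restrictions and the identification between them. -/
theorem nonempty_iso_of_arrows (h : IsFibreProd p₁ p₂ f₁ f₂) (hf₂ : Function.Surjective f₂) {ξ₁ : DefSch X x A₁}
    {ξ₂ : DefSch X x A₂} {ξ₀ : DefSch X x A} {η η' : DefSch X x B} (α₁ : Arrow f₁ ξ₁ ξ₀) (α₂ : Arrow f₂ ξ₂ ξ₀)
    (π₁ : Arrow p₁ η ξ₁) (π₂ : Arrow p₂ η ξ₂) (hπ : α₁.hom ≫ π₁.hom = α₂.hom ≫ π₂.hom)
    (π₁' : Arrow p₁ η' ξ₁) (π₂' : Arrow p₂ η' ξ₂) (hπ' : α₁.hom ≫ π₁'.hom = α₂.hom ≫ π₂'.hom) :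
    ∃ e : η.Iso η', π₁.hom ≫ e.iso.hom = π₁'.hom ∧ π₂.hom ≫ e.iso.hom = π₂'.hom := by
  have P := isPushout_of_arrows h hf₂ α₁ α₂ π₁ π₂ hπ
  have P' := isPushout_of_arrows h hf₂ α₁ α₂ π₁' π₂' hπ'
  have hr := IsPushout.inr_isoIsPushout_hom _ _ P P'
  have hl := IsPushout.inl_isoIsPushout_hom _ _ P P'
  refine ⟨⟨P.isoIsPushout _ _ P', P.hom_ext ?_ ?_, ?_⟩, hr, hl⟩
  · rw [← Category.assoc, hl, π₂'.isPullback.w, π₂.isPullback.w]
  · rw [← Category.assoc, hr, π₁'.isPullback.w, π₁.isPullback.w]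
  · rw [← π₁.i_hom, Category.assoc, hr, π₁'.i_hom]

end Groth.Agent.Def38
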