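import Groth.Agent.Def38.Ring
import Groth.Agent.Pinch2.Pairs
import Mathlib

/-! Gluing flat schemes over a fibre product of rings along a nilpotent surjection. -/

set_option autoImplicit false
set_option linter.style.haveILetI false
set_option backward.isDefEq.respectTransparency.types false

universe u

open CategoryTheory CategoryTheory.Limits AlgebraicGeometry

noncomputable section

namespace Groth.Agent.Def38

variable {B A₁ A₂ A : CommRingCat.{u}}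

/-- A cartesian square over spectra becomes, on affine charts, a pushout square of rings. -/
theorem isPushout_chart {R S : CommRingCat.{u}} {f : R ⟶ S} {X Y : Scheme.{u}} {φ : Y ⟶ X} {g : X ⟶ Spec R}
    {g' : Y ⟶ Spec S} (sq : IsPullback φ g' g (Spec.map f)) {U : X.Opens} (hU : IsAffineOpen U)
    (hW : IsAffineOpen (φ ⁻¹ᵁ U)) (e : φ ⁻¹ᵁ U ≤ φ ⁻¹ᵁ U) {σ : R ⟶ Γ(X, U)} {σ' : S ⟶ Γ(Y, φ ⁻¹ᵁ U)}
    (hσ : Spec.map σ = hU.fromSpec ≫ g) (hσ' : Spec.map σ' = hW.fromSpec ≫ g') :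
    IsPushout f σ σ' (φ.appLE U (φ ⁻¹ᵁ U) e) := by
  have h1 : IsPullback (Spec.map (φ.appLE U (φ ⁻¹ᵁ U) e)) hW.fromSpec hU.fromSpec φ :=
    IsOpenImmersion.isPullback _ _ _ _ (hU.SpecMap_appLE_fromSpec φ hW e).symm
      (by rw [hU.opensRange_fromSpec, hW.opensRange_fromSpec])
  have h2 := h1.paste_vert sq
  rw [← hσ, ← hσ'] at h2
  have h3 : IsPullback (Scheme.Spec.map (φ.appLE U (φ ⁻¹ᵁ U) e).op) (Scheme.Spec.map σ'.op)
      (Scheme.Spec.map σ.op) (Scheme.Spec.map f.op) := h2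
  exact (IsPullback.of_map_of_faithful Scheme.Spec h3).unop

/-- A commutative square is cartesian if it is so over an open cover of its upper-right corner. -/
theorem isPullback_of_forall_chart {X P S S' : Scheme.{u}} {b : X ⟶ P} {g : X ⟶ S'} {q : P ⟶ S} {s : S' ⟶ S}
    (w : b ≫ q = g ≫ s)
    (h : ∀ p : P, ∃ (V W : Scheme.{u}) (j : V ⟶ P) (jW : W ⟶ X) (u : W ⟶ V), IsOpenImmersion j ∧
      p ∈ Set.range j ∧ IsPullback u jW j b ∧ IsPullback u (jW ≫ g) (j ≫ q) s) :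
    IsPullback b g q s := by
  choose V W j jW u hj hp hsq hbig using h
  let c : X ⟶ pullback q s := pullback.lift b g w
  suffices IsIso c by
    exact IsPullback.of_iso_pullback ⟨w⟩ (asIso c) (pullback.lift_fst _ _ _) (pullback.lift_snd _ _ _)
  show MorphismProperty.isomorphisms Scheme c
  refine (IsZariskiLocalAtTarget.iff_of_iSup_eq_top (P := MorphismProperty.isomorphisms Scheme)
    (fun p : P => pullback.fst q s ⁻¹ᵁ (@Scheme.Hom.opensRange _ _ (j p) (hj p)))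
    (eq_top_iff.2 fun x _ => TopologicalSpace.Opens.mem_iSup.2 ⟨pullback.fst q s x, hp _⟩)).2 fun p => ?_
  haveI := hj p
  -- the chart of the target
  let W' := pullback (pullback.fst q s) (j p)
  let i' : W' ⟶ pullback q s := pullback.fst _ _
  have h' : IsPullback (pullback.snd _ _) i' (j p) (pullback.fst q s) := (IsPullback.of_hasPullback _ _).flip
  have hbig' : IsPullback (pullback.snd _ _) (i' ≫ pullback.snd q s) (j p ≫ q) s :=
    h'.paste_vert (IsPullback.of_hasPullback q s)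
  let v : W p ⟶ W' := pullback.lift (jW p ≫ c) (u p) (by
    rw [Category.assoc, pullback.lift_fst]; exact (hsq p).w.symm)
  have hv : IsIso v := by
    have e : v = (IsPullback.isoIsPullback _ _ (hbig p) hbig').hom := hbig'.hom_ext
      (by rw [IsPullback.isoIsPullback_hom_fst]; exact pullback.lift_snd _ _ _)
      (by rw [IsPullback.isoIsPullback_hom_snd, ← Category.assoc, pullback.lift_fst, Category.assoc, pullback.lift_snd])
    rw [e]; infer_instance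
  have hsq' : IsPullback v (jW p) i' c := by
    refine IsPullback.of_right ?_ (pullback.lift_fst _ _ _) h'
    rw [pullback.lift_snd, pullback.lift_fst]
    exact hsq p
  have hi : i'.opensRange = pullback.fst q s ⁻¹ᵁ (j p).opensRange := Scheme.Hom.opensRange_pullbackFst _ _
  rw [← hi]
  refine ((MorphismProperty.isomorphisms Scheme).arrow_mk_iso_iff (morphismRestrictOpensRange c i')).2 ?_
  exact (show MorphismProperty.isomorphisms Scheme (pullback.snd c i') from by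
    rw [show pullback.snd c i' = hsq'.flip.isoPullback.inv ≫ v from (hsq'.flip.isoPullback_inv_snd).symm]
    exact MorphismProperty.isomorphisms.infer_property _)

variable {p₁ : B ⟶ A₁} {p₂ : B ⟶ A₂} {f₁ : A₁ ⟶ A} {f₂ : A₂ ⟶ A}

/-- Flat schemes over the two factors that agree over the common quotient glue to a flat scheme over the fibre product. -/
theorem exists_glue (hw : p₂ ≫ f₂ = p₁ ≫ f₁) (hB : Pinch2.FibProp p₂ p₁ f₂ f₁) (hf₂ : Function.Surjective f₂)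
    (hnil : IsNilpotent (RingHom.ker f₂.hom)) {T₁ T₂ T₀ : Scheme.{u}} {q₁ : T₁ ⟶ Spec A₁} {q₂ : T₂ ⟶ Spec A₂}
    {q₀ : T₀ ⟶ Spec A} {φ₁ : T₀ ⟶ T₁} {φ₂ : T₀ ⟶ T₂} (sq₁ : IsPullback φ₁ q₀ q₁ (Spec.map f₁))
    (sq₂ : IsPullback φ₂ q₀ q₂ (Spec.map f₂)) [Flat q₁] [Flat q₂] :
    ∃ (T : Scheme.{u}) (q : T ⟶ Spec B) (π₁ : T₁ ⟶ T) (π₂ : T₂ ⟶ T), Flat q ∧ IsPushout φ₂ φ₁ π₂ π₁ ∧
      IsPullback π₁ q₁ q (Spec.map p₁) ∧ IsPullback π₂ q₂ q (Spec.map p₂) := by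
  haveI : IsClosedImmersion (Spec.map f₂) := IsClosedImmersion.spec_of_surjective _ hf₂
  haveI : Surjective (Spec.map f₂) := ⟨fun x => by
    have hr := range_comap_of_surjective _ f₂.hom hf₂
    have : x ∈ Set.range (PrimeSpectrum.comap f₂.hom) := by
      rw [hr]
      intro a ha
      obtain ⟨n, hn⟩ := hnil
      have : a ^ n ∈ RingHom.ker f₂.hom ^ n := Ideal.pow_mem_pow ha n
      rw [hn, Ideal.zero_eq_bot, Ideal.mem_bot] at this
      exact x.isPrime.mem_of_pow_mem n (this ▸ zero_mem _)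
    obtain ⟨y, hy⟩ := this
    exact ⟨y, hy⟩⟩
  haveI : IsClosedImmersion φ₂ := MorphismProperty.of_isPullback sq₂.flip ‹_›
  haveI : Surjective φ₂ := MorphismProperty.of_isPullback (P := @Surjective) sq₂.flip ‹_›
  haveI : IsAffineHom φ₁ := MorphismProperty.of_isPullback (P := @IsAffineHom) sq₁.flip inferInstance
  have H : Pinch2.HasPairs φ₂ φ₁ := Pinch2.hasPairs_thickening
  obtain ⟨T, π₂, π₁, hT, -, hπ₁cl, hπ₂aff⟩ := Pinch2.exists_pushout H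
  let q : T ⟶ Spec B := hT.desc (q₂ ≫ Spec.map p₂) (q₁ ≫ Spec.map p₁) (by
    rw [sq₂.w_assoc, sq₁.w_assoc, ← Spec.map_comp, ← Spec.map_comp, hw])
  have hq₂ : π₂ ≫ q = q₂ ≫ Spec.map p₂ := hT.inl_desc _ _ _
  have hq₁ : π₁ ≫ q = q₁ ≫ Spec.map p₁ := hT.inr_desc _ _ _
  -- the situation over an affine open of the glued scheme
  have key : ∀ (V : T.Opens) (hV : IsAffineOpen V), Flat (hV.fromSpec ≫ q) ∧
      (∃ (W : Scheme.{u}) (jW : W ⟶ T₁) (u : W ⟶ Spec Γ(T, V)), IsPullback u jW hV.fromSpec π₁ ∧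
        IsPullback u (jW ≫ q₁) (hV.fromSpec ≫ q) (Spec.map p₁)) ∧
      (∃ (W : Scheme.{u}) (jW : W ⟶ T₂) (u : W ⟶ Spec Γ(T, V)), IsPullback u jW hV.fromSpec π₂ ∧
        IsPullback u (jW ≫ q₂) (hV.fromSpec ≫ q) (Spec.map p₂)) := by
    intro V hV
    have hU₁ : IsAffineOpen (π₁ ⁻¹ᵁ V) := hV.preimage π₁
    have hU₂ : IsAffineOpen (π₂ ⁻¹ᵁ V) := hV.preimage π₂
    have hU₀ : IsAffineOpen (φ₂ ⁻¹ᵁ (π₂ ⁻¹ᵁ V)) := hU₂.preimage φ₂
    have eU : φ₂ ⁻¹ᵁ (π₂ ⁻¹ᵁ V) = φ₁ ⁻¹ᵁ (π₁ ⁻¹ᵁ V) := Pinch2.preimage_le hT.w V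
    obtain ⟨σ, hσ⟩ : ∃ σ, Spec.map σ = hV.fromSpec ≫ q := ⟨_, Spec.map_preimage _⟩
    obtain ⟨σ₁, hσ₁⟩ : ∃ σ₁, Spec.map σ₁ = hU₁.fromSpec ≫ q₁ := ⟨_, Spec.map_preimage _⟩
    obtain ⟨σ₂, hσ₂⟩ : ∃ σ₂, Spec.map σ₂ = hU₂.fromSpec ≫ q₂ := ⟨_, Spec.map_preimage _⟩
    obtain ⟨σ₀, hσ₀⟩ : ∃ σ₀, Spec.map σ₀ = hU₀.fromSpec ≫ q₀ := ⟨_, Spec.map_preimage _⟩
    have s₂ : IsPushout f₂ σ₂ σ₀ (φ₂.appLE _ _ le_rfl) := isPushout_chart sq₂ hU₂ hU₀ le_rfl hσ₂ hσ₀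
    have s₁ : IsPushout f₁ σ₁ σ₀ (φ₁.appLE (π₁ ⁻¹ᵁ V) (φ₂ ⁻¹ᵁ (π₂ ⁻¹ᵁ V)) eU.le) := by
      have : ∀ (O : T₀.Opens) (hO : IsAffineOpen O) (e : O ≤ φ₁ ⁻¹ᵁ (π₁ ⁻¹ᵁ V)), O = φ₁ ⁻¹ᵁ (π₁ ⁻¹ᵁ V) →
          ∀ τ : A ⟶ Γ(T₀, O), Spec.map τ = hO.fromSpec ≫ q₀ →
            IsPushout f₁ σ₁ τ (φ₁.appLE (π₁ ⁻¹ᵁ V) O e) := by
        rintro O hO e rfl τ hτ
        exact isPushout_chart sq₁ hU₁ hO e hσ₁ hτ
      exact this _ hU₀ eU.le eU σ₀ hσ₀
    have e₁ : Spec.map (π₁.app V) ≫ hV.fromSpec = hU₁.fromSpec ≫ π₁ := by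
      rw [Scheme.Hom.app_eq_appLE, hV.SpecMap_appLE_fromSpec π₁ hU₁]
    have e₂ : Spec.map (π₂.app V) ≫ hV.fromSpec = hU₂.fromSpec ≫ π₂ := by
      rw [Scheme.Hom.app_eq_appLE, hV.SpecMap_appLE_fromSpec π₂ hU₂]
    have w₁ : p₁ ≫ σ₁ = σ ≫ π₁.app V := Spec.map_injective (by
      rw [Spec.map_comp, Spec.map_comp, hσ, hσ₁, Category.assoc, ← hq₁, reassoc_of% e₁])
    have w₂ : p₂ ≫ σ₂ = σ ≫ π₂.app V := Spec.map_injective (by
      rw [Spec.map_comp, Spec.map_comp, hσ, hσ₂, Category.assoc, ← hq₂, reassoc_of% e₂])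
    have hfl₁ : σ₁.hom.Flat := (HasRingHomProperty.Spec_iff (P := @Flat)).1 (by rw [hσ₁]; infer_instance)
    have hfl₂ : σ₂.hom.Flat := (HasRingHomProperty.Spec_iff (P := @Flat)).1 (by rw [hσ₂]; infer_instance)
    obtain ⟨hflat, P₁, P₂⟩ := glue hw hB hf₂ hnil (Pinch2.fibAt_of_isPushout H hT hV)
      (by simp only [Scheme.Hom.app_eq_appLE, Scheme.Hom.appLE_comp_appLE, hT.w]) w₁ w₂ s₁ s₂ hfl₁ hfl₂
    refine ⟨?_, ⟨_, hU₁.fromSpec, Spec.map (π₁.app V), ?_, ?_⟩, ⟨_, hU₂.fromSpec, Spec.map (π₂.app V), ?_, ?_⟩⟩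
    · rw [← hσ]; exact (HasRingHomProperty.Spec_iff (P := @Flat)).2 hflat
    · exact IsOpenImmersion.isPullback _ _ _ _ e₁.symm (by rw [hV.opensRange_fromSpec, hU₁.opensRange_fromSpec])
    · rw [← hσ, ← hσ₁]
      exact (isPullback_SpecMap_of_isPushout _ _ _ _ P₁).flip
    · exact IsOpenImmersion.isPullback _ _ _ _ e₂.symm (by rw [hV.opensRange_fromSpec, hU₂.opensRange_fromSpec])
    · rw [← hσ, ← hσ₂]
      exact (isPullback_SpecMap_of_isPushout _ _ _ _ P₂).flip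
  refine ⟨T, q, π₁, π₂, ?_, hT, isPullback_of_forall_chart hq₁ fun p => ?_, isPullback_of_forall_chart hq₂ fun p => ?_⟩
  · refine IsZariskiLocalAtSource.of_openCover T.affineCover fun i => ?_
    obtain ⟨V, hV⟩ : ∃ V : T.Opens, V = (T.affineCover.f i).opensRange := ⟨_, rfl⟩
    have hVa : IsAffineOpen V := hV ▸ isAffineOpen_opensRange _
    let l := IsOpenImmersion.isoOfRangeEq (T.affineCover.f i) hVa.fromSpec (by rw [hVa.range_fromSpec, hV]; rfl)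
    have hl : l.hom ≫ hVa.fromSpec = T.affineCover.f i := IsOpenImmersion.isoOfRangeEq_hom_fac _ _ _
    haveI := (key V hVa).1
    rw [← hl, Category.assoc]
    infer_instance
  · obtain ⟨V, hV, hpV, -⟩ := exists_isAffineOpen_mem_and_subset (x := p) (U := (⊤ : T.Opens)) trivial
    obtain ⟨-, ⟨W, jW, u, h1, h2⟩, -⟩ := key V hV
    exact ⟨_, W, hV.fromSpec, jW, u, inferInstance, hV.range_fromSpec.symm ▸ hpV, h1, h2⟩
  · obtain ⟨V, hV, hpV, -⟩ := exists_isAffineOpen_mem_and_subset (x := p) (U := (⊤ : T.Opens)) trivial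
    obtain ⟨-, -, ⟨W, jW, u, h1, h2⟩⟩ := key V hV
    exact ⟨_, W, hV.fromSpec, jW, u, inferInstance, hV.range_fromSpec.symm ▸ hpV, h1, h2⟩

end Groth.Agent.Def38
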