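import Groth.Agent.LCI19.ConormalLoc
import Mathlib

/-! Relations between the generators of a Koszul-regular ideal. -/

set_option autoImplicit false
set_option linter.style.haveILetI false
set_option linter.unusedSectionVars false

universe u

open Finset

namespace Groth.Agent.Def38

open Koszul19 LCI19

variable {A : Type u} [CommRing A] {ι κ : Type} [Fintype ι] [Fintype κ] [DecidableEq ι] [DecidableEq κ]

/-- The relations between the members of a family. -/
noncomputable def rel (f : ι → A) : Submodule A (ι → A) := LinearMap.ker (Fintype.linearCombination A f)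

lemma mem_rel {f : ι → A} {r : ι → A} : r ∈ rel f ↔ ∑ i, r i * f i = 0 := by
  simp [rel, Fintype.linearCombination_apply]

/-- The Koszul relation of two members. -/
def kosVec (f : ι → A) (i j : ι) : ι → A := Pi.single j (f i) - Pi.single i (f j)

/-- The span of the Koszul relations. -/
def kos (f : ι → A) : Submodule A (ι → A) := Submodule.span A (Set.range fun p : ι × ι => kosVec f p.1 p.2)

lemma kosVec_mem (f : ι → A) (i j : ι) : kosVec f i j ∈ kos f := Submodule.subset_span ⟨(i, j), rfl⟩

lemma linearCombination_kosVec (f : ι → A) (i j : ι) : ∑ a, kosVec f i j a * f a = 0 := by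
  simp [kosVec, mul_sub, Finset.sum_sub_distrib, Pi.single_apply, mul_ite, mul_comm]

lemma kos_le_rel (f : ι → A) : kos f ≤ rel f :=
  Submodule.span_le.2 fun _ ⟨p, hp⟩ => hp ▸ mem_rel.2 (linearCombination_kosVec f p.1 p.2)

/-- Koszul relations go to Koszul relations. -/
lemma kos_map {f : ι → A} {h : κ → A} (N : κ → ι → A) (hN : ∀ a, ∑ i, N a i * f i = h a) {c : κ → A}
    (hc : c ∈ kos h) : ∑ a, c a • N a ∈ kos f := by
  suffices kos h ≤ (kos f).comap (Fintype.linearCombination A N) by
    simpa [Fintype.linearCombination_apply] using this hc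
  refine Submodule.span_le.2 ?_
  rintro _ ⟨⟨a, b⟩, rfl⟩
  show Fintype.linearCombination A N (kosVec h a b) ∈ kos f
  have e : Fintype.linearCombination A N (kosVec h a b) =
      ∑ i, ∑ j, (N a i * N b j) • kosVec f i j := by
    rw [kosVec, map_sub, Fintype.linearCombination_apply_single, Fintype.linearCombination_apply_single, ← hN a, ← hN b]
    funext x
    simp [kosVec, Finset.sum_apply, Pi.single_apply, mul_sub, Finset.sum_sub_distrib, Finset.mul_sum, mul_ite,
      mul_assoc, mul_comm, mul_left_comm]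
  rw [e]
  exact Submodule.sum_mem _ fun i _ => Submodule.sum_mem _ fun j _ => Submodule.smul_mem _ _ (kosVec_mem f i j)

/-- The coordinates of the first term of a Koszul complex. -/
noncomputable def coords : (l : List A) → (((Koszul.koszul A l).X (-1) : Type u) →ₗ[A] (Fin l.length → A))
  | [] => 0
  | f :: l =>
    let e := (consData f l).e (-1) 0 (neg_add_cancel 1)
    { toFun := fun x => Fin.cons (eps l (e x).1) (coords l (e x).2)
      map_add' := fun x y => by
        funext i
        refine Fin.cases ?_ ?_ i <;> simp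
      map_smul' := fun a x => by
        funext i
        refine Fin.cases ?_ ?_ i <;> simp }

lemma coords_cons (f : A) (l : List A) (x : (Koszul.koszul A (f :: l)).X (-1)) :
    coords (f :: l) x = Fin.cons (eps l ((consData f l).e (-1) 0 (neg_add_cancel 1) x).1)
      (coords l ((consData f l).e (-1) 0 (neg_add_cancel 1) x).2) := rfl

lemma coords_surjective : ∀ l : List A, Function.Surjective (coords l)
  | [] => fun c => ⟨0, funext fun i => i.elim0⟩
  | f :: l => fun c => by
    obtain ⟨x₂, hx₂⟩ := coords_surjective l (fun i => c i.succ)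
    refine ⟨((consData f l).e (-1) 0 (neg_add_cancel 1)).symm ((eps l).symm (c 0), x₂), ?_⟩
    rw [coords_cons, LinearEquiv.apply_symm_apply, LinearEquiv.apply_symm_apply, hx₂]
    exact Fin.cons_self_tail c

lemma eps_dd : ∀ (l : List A) (x : (Koszul.koszul A l).X (-1)),
    eps l (dd _ (-1) 0 x) = ∑ i, coords l x i * l.get i
  | [], x => by
    haveI := subsingleton_X ([] : List A) (-1) (by simp)
    rw [Subsingleton.elim x 0, map_zero, map_zero]
    simp
  | f :: l, x => by
    rw [eps_d_cons, eps_dd l, coords_cons]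
    refine Eq.trans ?_ (Fin.sum_univ_succ _).symm
    simp [mul_comm]

lemma coords_dd_mem : ∀ (l : List A) (y : (Koszul.koszul A l).X (-2)), coords l (dd _ (-2) (-1) y) ∈ kos l.get
  | [], y => by simp [coords]
  | f :: l, y => by
    rw [coords_cons, (consData f l).e_d_fst (-2) (-1) 0 (by norm_num) (neg_add_cancel 1),
      (consData f l).e_d_snd (-2) (-1) 0 (by norm_num) (neg_add_cancel 1), map_neg, eps_dd, map_add, map_smul]
    have h₂ := coords_dd_mem l ((consData f l).e (-2) (-1) (by norm_num) y).2
    set c := coords l ((consData f l).e (-2) (-1) (by norm_num) y).1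
    set d := coords l (dd _ (-2) (-1) ((consData f l).e (-2) (-1) (by norm_num) y).2)
    have e : (Fin.cons (-∑ i, c i * l.get i) (f • c + d) : Fin (l.length + 1) → A) =
        (∑ j, c j • kosVec (f :: l).get (0 : Fin (l.length + 1)) j.succ) + Fin.cons 0 d := by
      funext i
      refine Fin.cases ?_ ?_ i
      · simp [kosVec, Finset.sum_apply, Pi.single_apply, Fin.succ_ne_zero, (Fin.succ_ne_zero _).symm]
      · intro i
        simp [kosVec, Finset.sum_apply, Pi.single_apply, Fin.succ_ne_zero, Fin.succ_inj, mul_comm]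
    refine e ▸ Submodule.add_mem _ (Submodule.sum_mem _ fun j _ => Submodule.smul_mem _ _ (kosVec_mem _ _ _)) ?_
    let L : (Fin l.length → A) →ₗ[A] (Fin (l.length + 1) → A) :=
      { toFun := fun v => Fin.cons 0 v
        map_add' := fun x y => by funext i; refine Fin.cases ?_ ?_ i <;> simp
        map_smul' := fun a x => by funext i; refine Fin.cases ?_ ?_ i <;> simp }
    suffices kos l.get ≤ (kos (f :: l).get).comap L from this h₂
    refine Submodule.span_le.2 ?_
    rintro _ ⟨⟨a, b⟩, rfl⟩
    have : L (kosVec l.get a b) = kosVec (f :: l).get a.succ b.succ := by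
      funext i
      refine Fin.cases ?_ ?_ i
      · simp [L, kosVec, Pi.single_apply, (Fin.succ_ne_zero _).symm]
      · intro i
        simp [L, kosVec, Pi.single_apply, Fin.succ_inj]
    show L (kosVec l.get a b) ∈ kos (f :: l).get
    rw [this]
    exact kosVec_mem _ _ _

/-- The relations of a Koszul-regular sequence are Koszul relations. -/
theorem mem_kos_of_kR {l : List A} (hl : KR l) (c : Fin l.length → A) (hc : ∑ i, c i * l.get i = 0) :
    c ∈ kos l.get := by
  obtain ⟨x, rfl⟩ := coords_surjective l c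
  rw [← eps_dd, map_eq_zero_iff _ (eps l).injective] at hc
  obtain ⟨y, hy⟩ := hl (-1) (by omega) (-2) 0 (by norm_num) (by norm_num) x hc
  rw [← hy]
  exact coords_dd_mem l y

omit [Fintype κ] in
/-- Membership in the span of Koszul relations can be tested after inverting `g`, up to a power of `g`. -/
lemma exists_pow_smul_mem_kos (g : A) {h : κ → A} [Fintype κ] {c : κ → A}
    (hc : (fun i => algebraMap A (Localization.Away g) (c i)) ∈ kos (fun i => algebraMap A (Localization.Away g) (h i))) :
    ∃ m : ℕ, g ^ m • c ∈ kos h := by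
  let L := Localization.Away g
  let al := algebraMap A L
  suffices ∀ v ∈ kos (fun i => al (h i)), ∃ (n : ℕ) (w : κ → A), w ∈ kos h ∧ ∀ i, al g ^ n * v i = al (w i) by
    obtain ⟨n, w, hw, he⟩ := this _ hc
    choose m hm using fun i => (IsLocalization.Away.exists_of_eq g (show al (g ^ n * c i) = al (w i) by
      rw [map_mul, map_pow]; exact he i))
    refine ⟨(univ.sup m) + n, ?_⟩
    have : g ^ (univ.sup m + n) • c = g ^ univ.sup m • w := by
      funext i
      obtain ⟨e, he⟩ : ∃ e, univ.sup m = e + m i :=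
        ⟨univ.sup m - m i, (Nat.sub_add_cancel (le_sup (f := m) (mem_univ i))).symm⟩
      show g ^ (univ.sup m + n) * c i = g ^ univ.sup m * w i
      rw [he, pow_add, pow_add]
      linear_combination g ^ e * hm i
    rw [this]
    exact Submodule.smul_mem _ _ hw
  intro v hv
  induction hv using Submodule.span_induction with
  | mem v hv =>
    obtain ⟨⟨a, b⟩, rfl⟩ := hv
    refine ⟨0, _, kosVec_mem h a b, fun i => ?_⟩
    simp only [pow_zero, one_mul, kosVec, Pi.sub_apply, map_sub]
    rw [Pi.single_apply, Pi.single_apply, Pi.single_apply, Pi.single_apply, apply_ite al, apply_ite al, map_zero]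
  | zero => exact ⟨0, 0, Submodule.zero_mem _, fun i => by simp⟩
  | add v v' _ _ hv hv' =>
    obtain ⟨n, w, hw, e⟩ := hv
    obtain ⟨n', w', hw', e'⟩ := hv'
    refine ⟨n + n', g ^ n' • w + g ^ n • w', Submodule.add_mem _ (Submodule.smul_mem _ _ hw) (Submodule.smul_mem _ _ hw'),
      fun i => ?_⟩
    simp only [Pi.add_apply, Pi.smul_apply, smul_eq_mul, map_add, map_mul, map_pow, ← e i, ← e' i]
    ring
  | smul q v _ hv =>
    obtain ⟨n, w, hw, e⟩ := hv
    obtain ⟨m, a, hqa⟩ := IsLocalization.Away.surj g q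
    refine ⟨m + n, a • w, Submodule.smul_mem _ _ hw, fun i => ?_⟩
    simp only [Pi.smul_apply, smul_eq_mul, map_mul, ← e i]
    rw [show al a = q * al g ^ m from hqa.symm]
    ring

variable {n : ℕ}

/-- A functional on the relations of generators of a Koszul-regular ideal, killing the Koszul relations, kills the
relations with coefficients in the ideal. -/
theorem phi_eq_zero {I : Ideal A} (hI : LCI.IsKoszulRegularIdeal I) (f : Fin n → A)
    (hf : Ideal.span (Set.range f) = I) (φ : rel f →ₗ[A] A ⧸ I)
    (hφ : ∀ i j, φ ⟨kosVec f i j, kos_le_rel f (kosVec_mem f i j)⟩ = 0) (r : rel f) (hr : ∀ i, r.1 i ∈ I) :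
    φ r = 0 := by
  rw [isKoszulRegularIdeal_iff] at hI
  -- `K` : where `φ` vanishes for Koszul reasons
  have hkos : ∀ v (hv : v ∈ kos f), φ ⟨v, kos_le_rel f hv⟩ = 0 := by
    intro v hv
    have : kos f ≤ (LinearMap.ker φ).map (rel f).subtype := Submodule.span_le.2 fun _ ⟨p, hp⟩ =>
      ⟨⟨kosVec f p.1 p.2, kos_le_rel f (kosVec_mem f _ _)⟩, hφ _ _, hp⟩
    obtain ⟨w, hw, hwv⟩ := this hv
    obtain rfl : w = ⟨v, kos_le_rel f hv⟩ := Subtype.ext hwv
    exact hw
  obtain ⟨z, hz⟩ := Ideal.Quotient.mk_surjective (φ r)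
  rw [← hz, Ideal.Quotient.eq_zero_iff_mem]
  by_contra hzI
  -- the annihilator
  let T : Ideal A := I.colon {z}
  have hT : T ≠ ⊤ := fun h => hzI (by simpa using Submodule.mem_colon_singleton.1 ((Ideal.eq_top_iff_one T).1 h))
  obtain ⟨p, hp, hTp⟩ := Ideal.exists_le_maximal T hT
  have hIp : I ≤ p := fun a ha => hTp (Submodule.mem_colon_singleton.2 (I.mul_mem_right z ha))
  obtain ⟨g, hgp, l, hl, hkr, hIl⟩ := hI ⟨p, hp.isPrime⟩ hIp
  let al := algebraMap A (Localization.Away g)
  let h : Fin l.length → A := l.get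
  -- `h = N f`
  have hN : ∀ a, ∃ N : Fin n → A, ∑ i, N i * f i = h a := fun a => by
    have := hl _ (List.get_mem l a)
    rw [← hf, Ideal.mem_span_range_iff_exists_fun] at this
    exact this
  choose N hN using hN
  -- `g^a f = M h`
  have hM : ∀ i, ∃ (a : ℕ) (M : Fin l.length → A), ∑ j, M j * h j = g ^ a * f i := fun i => by
    have h1 : al (f i) ∈ (Ideal.span (Set.range h)).map al := by
      have : Ideal.ofList (l.map al) = (Ideal.span (Set.range h)).map al := by
        rw [← LCI19.map_ofList, Set.range_list_get]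
      rw [← this, ← hIl]
      exact Ideal.mem_map_of_mem _ (hf ▸ Ideal.subset_span ⟨i, rfl⟩)
    obtain ⟨m, ⟨k, rfl⟩, hk⟩ :=
      (IsLocalization.algebraMap_mem_map_algebraMap_iff (Submonoid.powers g) (Localization.Away g) _ _).1 h1
    obtain ⟨c, hc⟩ := Ideal.mem_span_range_iff_exists_fun.1 hk
    exact ⟨k, c, hc⟩
  choose a₀ M₀ hM₀ using hM
  let a := univ.sup a₀
  let M : Fin n → Fin l.length → A := fun i => g ^ (a - a₀ i) • M₀ i
  have hM : ∀ i, ∑ j, M i j * h j = g ^ a * f i := fun i => by
    simp only [M, Pi.smul_apply, smul_eq_mul, mul_assoc, ← mul_sum, hM₀ i]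
    rw [← mul_assoc, ← pow_add, Nat.sub_add_cancel (le_sup (f := a₀) (mem_univ i))]
  let c : Fin l.length → A := ∑ i, r.1 i • M i
  have hc : ∑ j, c j * h j = 0 := by
    simp only [c, Finset.sum_apply, Pi.smul_apply, smul_eq_mul, Finset.sum_mul, mul_assoc]
    rw [Finset.sum_comm]
    simp only [← mul_sum, hM, mul_left_comm _ (g ^ a), ← mul_sum, mem_rel.1 r.2, mul_zero]
  obtain ⟨m, hm⟩ : ∃ m, g ^ m • c ∈ kos h := by
    refine exists_pow_smul_mem_kos g ?_
    have : ∀ (l' : List (Localization.Away g)) (e : l' = l.map al), KR l' → ∀ c' : Fin l'.length → Localization.Away g,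
        ∑ i, c' i * l'.get i = 0 → c' ∈ kos l'.get := fun l' _ hl' c' => mem_kos_of_kR hl' c'
    have key := mem_kos_of_kR (l := l.map al) hkr (fun i => al (c (i.cast (by simp)))) (by
      rw [← Fin.sum_congr' _ (List.length_map al).symm]
      simp only [← map_zero al, ← hc, map_sum, map_mul]
      exact Finset.sum_congr rfl fun i _ => by simp [h])
    let L : (Fin (l.map al).length → Localization.Away g) →ₗ[Localization.Away g] (Fin l.length → Localization.Away g) :=
      LinearMap.funLeft _ _ (Fin.cast (List.length_map al).symm)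
    have hle : kos (l.map al).get ≤ (kos fun i => al (h i)).comap L := by
      refine Submodule.span_le.2 ?_
      rintro _ ⟨⟨i, j⟩, rfl⟩
      have : L (kosVec (l.map al).get i j) =
          kosVec (fun i => al (h i)) (i.cast (List.length_map al)) (j.cast (List.length_map al)) := by
        funext x
        simp [L, kosVec, LinearMap.funLeft_apply, Pi.single_apply, h, Fin.ext_iff]
      show L (kosVec (l.map al).get i j) ∈ kos (fun i => al (h i))
      rw [this]
      exact kosVec_mem _ _ _
    exact hle key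
  -- the two parts of `g ^ (m + a) • r`
  let e : Fin n → (Fin n → A) := fun i => g ^ a • Pi.single i 1 - ∑ j, M i j • N j
  have he : ∀ i, e i ∈ rel f := fun i => by
    rw [mem_rel]
    simp only [e, Pi.sub_apply, Pi.smul_apply, Finset.sum_apply, smul_eq_mul, sub_mul, Finset.sum_sub_distrib,
      Finset.sum_mul, mul_assoc]
    rw [Finset.sum_comm (f := fun x j => M i j * (N j x * f x))]
    simp only [← mul_sum, hN, hM]
    simp [Pi.single_apply]
  have hK : ∑ j, (g ^ m • c) j • N j ∈ kos f := kos_map N hN hm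
  have hdec : g ^ (m + a) • r =
      (⟨_, kos_le_rel f hK⟩ : rel f) + g ^ m • ∑ i, r.1 i • (⟨e i, he i⟩ : rel f) := by
    refine Subtype.ext (funext fun x => ?_)
    simp only [Submodule.coe_add, SetLike.val_smul, Submodule.coe_sum, Pi.add_apply, Pi.smul_apply, Finset.sum_apply,
      smul_eq_mul, e, c, Pi.sub_apply, mul_sub, Finset.mul_sum, Finset.sum_sub_distrib]
    rw [Finset.sum_comm]
    simp [Pi.single_apply, pow_add, mul_comm, mul_left_comm, mul_assoc, Finset.mul_sum]
  have h0 : g ^ (m + a) • φ r = 0 := by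
    rw [← map_smul, hdec, map_add, map_smul, map_sum, hkos _ hK, zero_add,
      Finset.sum_eq_zero fun i _ => ?_, smul_zero]
    rw [map_smul]
    obtain ⟨w, hw⟩ := Ideal.Quotient.mk_surjective (φ ⟨e i, he i⟩)
    rw [← hw]
    exact Ideal.Quotient.eq_zero_iff_mem.2 (I.mul_mem_right w (hr i))
  rw [← hz] at h0
  exact hgp (hp.isPrime.mem_of_pow_mem _ (hTp (Submodule.mem_colon_singleton.2 (Ideal.Quotient.eq_zero_iff_mem.1 h0))))

/-- Such a functional extends to all vectors. -/
theorem exists_extension {I : Ideal A} (hI : LCI.IsKoszulRegularIdeal I) (f : Fin n → A)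
    (hf : Ideal.span (Set.range f) = I) (φ : rel f →ₗ[A] A ⧸ I)
    (hφ : ∀ i j, φ ⟨kosVec f i j, kos_le_rel f (kosVec_mem f i j)⟩ = 0) :
    ∃ ψ : Fin n → A ⧸ I, ∀ r : rel f, φ r = ∑ i, r.1 i • ψ i := by
  haveI := (projective_cotangent hI).2
  have hfI : ∀ i, f i ∈ I := fun i => hf ▸ Ideal.subset_span ⟨i, rfl⟩
  let v : Fin n → I.Cotangent := fun i => I.toCotangent ⟨f i, hfI i⟩
  let q : (Fin n → A ⧸ I) →ₗ[A ⧸ I] I.Cotangent := Fintype.linearCombination (A ⧸ I) v
  have hq : ∀ b : Fin n → A, q (fun i => Ideal.Quotient.mk I (b i)) =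
      I.toCotangent (∑ i, b i • (⟨f i, hfI i⟩ : I)) := fun b => by
    rw [map_sum, Fintype.linearCombination_apply]
    refine Finset.sum_congr rfl fun i _ => ?_
    rw [map_smul]
    exact algebraMap_smul (A ⧸ I) (b i) (v i)
  have hqs : Function.Surjective q := fun y => by
    obtain ⟨⟨w, hw⟩, rfl⟩ := I.toCotangent_surjective y
    have hw' := hw
    rw [← hf, Ideal.mem_span_range_iff_exists_fun] at hw'
    obtain ⟨b, hb⟩ := hw'
    exact ⟨_, (hq b).trans (congrArg _ (Subtype.ext (by simp [← hb])))⟩
  obtain ⟨σ, hσ⟩ := Module.projective_lifting_property q LinearMap.id hqs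
  -- lifts of the projection to the kernel of `q`
  have hlift : ∀ w, q w = 0 → ∃ r : rel f, ∀ i, Ideal.Quotient.mk I (r.1 i) = w i := by
    intro w hw
    choose b hb using fun i => Ideal.Quotient.mk_surjective (w i)
    have h1 : (∑ i, b i * f i) ∈ I • Ideal.span (Set.range f) := by
      rw [show w = fun i => Ideal.Quotient.mk I (b i) from funext fun i => (hb i).symm, hq,
        Ideal.toCotangent_eq_zero] at hw
      rw [hf, smul_eq_mul, ← sq]
      simpa using hw
    obtain ⟨d, hdI, hd⟩ := (Submodule.mem_ideal_smul_span_iff_exists_sum _ _ _).1 h1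
    rw [Finsupp.sum_fintype _ _ (by simp)] at hd
    simp only [smul_eq_mul] at hd
    refine ⟨⟨fun i => b i - d i, mem_rel.2 (by simp [sub_mul, hd])⟩, fun i => ?_⟩
    rw [map_sub, hb, Ideal.Quotient.eq_zero_iff_mem.2 (hdI i), sub_zero]
  let v' : Fin n → (Fin n → A ⧸ I) := fun i => Pi.single i 1 - σ (v i)
  have hv' : ∀ i, q (v' i) = 0 := fun i => by
    have hs : q (σ (v i)) = v i := LinearMap.congr_fun hσ (v i)
    rw [map_sub, hs, Fintype.linearCombination_apply_single, one_smul, sub_self]
  choose r₀ hr₀ using fun i => hlift _ (hv' i)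
  refine ⟨fun i => φ (r₀ i), fun r => ?_⟩
  have hr : q (fun i => Ideal.Quotient.mk I (r.1 i)) = 0 := by
    rw [hq, Ideal.toCotangent_eq_zero]
    simp [mem_rel.1 r.2]
  have h0 : φ (r - ∑ i, r.1 i • r₀ i) = 0 := by
    refine phi_eq_zero hI f hf φ hφ _ fun x => ?_
    rw [← Ideal.Quotient.eq_zero_iff_mem]
    simp only [Submodule.coe_sub, Submodule.coe_sum, SetLike.val_smul, Pi.sub_apply, Finset.sum_apply, Pi.smul_apply,
      smul_eq_mul, map_sub, map_sum, map_mul, hr₀, v', mul_sub, Finset.sum_sub_distrib]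
    have h2 : ∑ i, Ideal.Quotient.mk I (r.1 i) * σ (v i) x = σ (q fun i => Ideal.Quotient.mk I (r.1 i)) x := by
      rw [Fintype.linearCombination_apply, map_sum, Finset.sum_apply]
      exact Finset.sum_congr rfl fun i _ => by rw [map_smul]; rfl
    rw [h2, hr, map_zero]
    simp [Pi.single_apply]
  rw [map_sub, sub_eq_zero] at h0
  rw [h0, map_sum]
  simp [map_smul]

end Groth.Agent.Def38
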