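import Groth.Agent.Pinch2.MapRing
import Mathlib

/-! Flat algebras over a fibre product of rings along a nilpotent surjection. -/

set_option autoImplicit false
set_option backward.isDefEq.respectTransparency.types false

universe u

open CategoryTheory CategoryTheory.Limits TensorProduct

noncomputable section

namespace Groth.Agent.Def38

/-- Elements of a pushout of rings are sums of products from the two sides. -/
theorem induction_pushout {R A R' A' : CommRingCat.{u}} {φ : R ⟶ A} {ρ : R ⟶ R'} {α : A ⟶ A'} {φ' : R' ⟶ A'}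
    (h : IsPushout φ ρ α φ') {motive : A' → Prop} (h0 : motive 0)
    (hadd : ∀ x y, motive x → motive y → motive (x + y)) (hmul : ∀ a r, motive (α a * φ' r)) (z : A') :
    motive z := by
  algebraize [φ.hom, ρ.hom, α.hom, φ'.hom, α.hom.comp φ.hom]
  haveI : IsScalarTower R R' A' := IsScalarTower.of_algebraMap_eq' congr($(h.w).hom)
  haveI : Algebra.IsPushout R A R' A' := (CommRingCat.isPushout_iff_isPushout (R := R) (R' := A) (S := R') (S' := A')).1 h
  obtain ⟨w, rfl⟩ := (Algebra.IsPushout.equiv R A R' A').surjective z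
  induction w using TensorProduct.induction_on with
  | zero => rwa [map_zero]
  | tmul a r =>
    rw [Algebra.IsPushout.equiv_tmul]
    exact hmul a r
  | add x y hx hy => rw [map_add]; exact hadd _ _ hx hy

variable {B A₁ A₂ A S S₁ S₂ S₀ : CommRingCat.{u}} {p₁ : B ⟶ A₁} {p₂ : B ⟶ A₂} {f₁ : A₁ ⟶ A} {f₂ : A₂ ⟶ A}
  {σ : B ⟶ S} {σ₁ : A₁ ⟶ S₁} {σ₂ : A₂ ⟶ S₂} {σ₀ : A ⟶ S₀}
  {π₁ : S ⟶ S₁} {π₂ : S ⟶ S₂} {φ₁ : S₁ ⟶ S₀} {φ₂ : S₂ ⟶ S₀}

/-- An algebra glued from flat algebras along a nilpotent surjection is flat, with the expected restrictions. -/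
theorem glue (hw : p₂ ≫ f₂ = p₁ ≫ f₁) (hB : Pinch2.FibProp p₂ p₁ f₂ f₁) (hf₂ : Function.Surjective f₂)
    (hnil : IsNilpotent (RingHom.ker f₂.hom))
    (hS : Pinch2.FibProp π₂ π₁ φ₂ φ₁) (hwS : π₂ ≫ φ₂ = π₁ ≫ φ₁)
    (w₁ : p₁ ≫ σ₁ = σ ≫ π₁) (w₂ : p₂ ≫ σ₂ = σ ≫ π₂)
    (s₁ : IsPushout f₁ σ₁ σ₀ φ₁) (s₂ : IsPushout f₂ σ₂ σ₀ φ₂)
    (h₁ : σ₁.hom.Flat) (h₂ : σ₂.hom.Flat) :
    σ.hom.Flat ∧ IsPushout p₁ σ σ₁ π₁ ∧ IsPushout p₂ σ σ₂ π₂ := by
  have hp₁ : Function.Surjective p₁ := fun a => by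
    obtain ⟨a₂, ha₂⟩ := hf₂ (f₁ a)
    obtain ⟨s, -, hs⟩ := hB.2 a₂ a ha₂
    exact ⟨s, hs⟩
  have hφ₂ : Function.Surjective φ₂ := fun z => by
    refine induction_pushout s₂ (motive := fun z => ∃ y, φ₂ y = z) ⟨0, map_zero _⟩
      (fun x y ⟨a, ha⟩ ⟨b, hb⟩ => ⟨a + b, by rw [map_add, ha, hb]⟩) (fun a r => ?_) z
    obtain ⟨α, rfl⟩ := hf₂ a
    refine ⟨σ₂ α * r, ?_⟩
    rw [map_mul, ← CommRingCat.comp_apply f₂, s₂.w, CommRingCat.comp_apply]
  have hπ₁ : Function.Surjective π₁ := fun x => by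
    obtain ⟨x₂, hx₂⟩ := hφ₂ (φ₁ x)
    obtain ⟨s, -, hs⟩ := hS.2 x₂ x hx₂
    exact ⟨s, hs⟩
  let I := RingHom.ker f₂.hom
  -- `S₂` is spanned over `A₂` by `S`
  let T : AddSubmonoid S₂ := AddSubmonoid.closure {y | ∃ α s, σ₂ α * π₂ s = y}
  have hTmul : ∀ α, ∀ y ∈ T, σ₂ α * y ∈ T := fun α y hy => by
    induction hy using AddSubmonoid.closure_induction with
    | mem y hy =>
      obtain ⟨β, s, rfl⟩ := hy
      exact AddSubmonoid.subset_closure ⟨α * β, s, by rw [map_mul, mul_assoc]⟩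
    | zero => rw [mul_zero]; exact T.zero_mem
    | add x y _ _ hx hy => rw [mul_add]; exact T.add_mem hx hy
  have hT1 : ∀ y, ∃ t ∈ T, y - t ∈ I.map σ₂.hom := fun y => by
    suffices ∀ z : S₀, ∃ t ∈ T, φ₂ t = z by
      obtain ⟨t, ht, htz⟩ := this (φ₂ y)
      exact ⟨t, ht, Pinch2.mem_map_ker_of_isPushout s₂ hf₂ (by rw [map_sub, htz, sub_self])⟩
    refine induction_pushout s₁ ⟨0, T.zero_mem, map_zero _⟩
      (fun x y ⟨a, ha, ha'⟩ ⟨b, hb, hb'⟩ => ⟨a + b, T.add_mem ha hb, by rw [map_add, ha', hb']⟩) fun a r => ?_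
    obtain ⟨α, rfl⟩ := hf₂ a
    obtain ⟨s, rfl⟩ := hπ₁ r
    refine ⟨σ₂ α * π₂ s, AddSubmonoid.subset_closure ⟨α, s, rfl⟩, ?_⟩
    rw [map_mul, ← CommRingCat.comp_apply f₂, s₂.w, CommRingCat.comp_apply, ← CommRingCat.comp_apply π₂,
      hwS, CommRingCat.comp_apply]
  have hT : ∀ y, y ∈ T := by
    obtain ⟨n, hn⟩ := hnil
    suffices ∀ m, ∀ y, ∃ t ∈ T, y - t ∈ (I ^ m).map σ₂.hom by
      intro y
      obtain ⟨t, ht, hyt⟩ := this n y
      rw [hn, Ideal.zero_eq_bot, Ideal.map_bot, Ideal.mem_bot, sub_eq_zero] at hyt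
      exact hyt ▸ ht
    intro m
    induction m with
    | zero => exact fun y => ⟨0, T.zero_mem, by rw [pow_zero, Ideal.one_eq_top, Ideal.map_top]; trivial⟩
    | succ m ih =>
      intro y
      obtain ⟨t, ht, hyt⟩ := ih y
      suffices ∀ x ∈ (I ^ m).map σ₂.hom, ∀ c, ∃ u ∈ T, c * x - u ∈ (I ^ (m + 1)).map σ₂.hom by
        obtain ⟨u, hu, hu'⟩ := this _ hyt 1
        exact ⟨t + u, T.add_mem ht hu, by rwa [← sub_sub, ← one_mul (y - t)]⟩
      intro x hx
      induction hx using Submodule.span_induction with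
      | mem x hx =>
        obtain ⟨i, hi, rfl⟩ := hx
        intro c
        obtain ⟨v, hv, hcv⟩ := hT1 c
        refine ⟨σ₂ i * v, hTmul i v hv, ?_⟩
        rw [show c * σ₂ i - σ₂ i * v = (c - v) * σ₂ i by ring, pow_succ', Ideal.map_mul]
        exact Ideal.mul_mem_mul hcv (Ideal.mem_map_of_mem _ hi)
      | zero => exact fun c => ⟨0, T.zero_mem, by rw [mul_zero, sub_zero]; exact Ideal.zero_mem _⟩
      | add x x' _ _ hx hx' =>
        intro c
        obtain ⟨u, hu, hu'⟩ := hx c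
        obtain ⟨v, hv, hv'⟩ := hx' c
        exact ⟨u + v, T.add_mem hu hv, by rw [mul_add, add_sub_add_comm]; exact Ideal.add_mem _ hu' hv'⟩
      | smul r x _ hx => exact fun c => by simpa [mul_assoc] using hx (c * r)
  -- the restriction to `A₁`
  have hpush₁ : IsPushout p₁ σ σ₁ π₁ := by
    refine Pinch2.isPushout_of_surjective w₁ hp₁ hπ₁ fun r hr => ?_
    have hmem : π₂ r ∈ I.map σ₂.hom := Pinch2.mem_map_ker_of_isPushout s₂ hf₂ (by
      rw [← CommRingCat.comp_apply, hwS, CommRingCat.comp_apply, hr, map_zero])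
    suffices ∀ y ∈ I.map σ₂.hom, ∀ c, ∃ r' ∈ (RingHom.ker p₁.hom).map σ.hom, π₁ r' = 0 ∧ π₂ r' = c * y by
      obtain ⟨r', hr', h1, h2⟩ := this _ hmem 1
      rwa [hS.1 r r' (by rw [h2, one_mul]) (by rw [h1, hr])]
    intro y hy
    induction hy using Submodule.span_induction with
    | mem y hy =>
      obtain ⟨i, hi, rfl⟩ := hy
      intro c
      induction hT c using AddSubmonoid.closure_induction with
      | mem c hc =>
        obtain ⟨α, s, rfl⟩ := hc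
        obtain ⟨j, hj₂, hj₁⟩ := hB.2 (α * i) 0 (by rw [map_zero, map_mul, RingHom.mem_ker.1 hi, mul_zero])
        refine ⟨σ j * s, Ideal.mul_mem_right _ _ (Ideal.mem_map_of_mem _ hj₁), ?_, ?_⟩
        · rw [map_mul, ← CommRingCat.comp_apply, ← w₁, CommRingCat.comp_apply, hj₁, map_zero, zero_mul]
        · rw [map_mul, ← CommRingCat.comp_apply, ← w₂, CommRingCat.comp_apply, hj₂, map_mul]
          ring
      | zero => exact ⟨0, Ideal.zero_mem _, map_zero _, by rw [map_zero, zero_mul]⟩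
      | add a b _ _ ha hb =>
        obtain ⟨u, hu, hu₁, hu₂⟩ := ha
        obtain ⟨v, hv, hv₁, hv₂⟩ := hb
        exact ⟨u + v, Ideal.add_mem _ hu hv, by rw [map_add, hu₁, hv₁, add_zero], by rw [map_add, hu₂, hv₂, add_mul]⟩
    | zero => exact fun c => ⟨0, Ideal.zero_mem _, map_zero _, by rw [map_zero, mul_zero]⟩
    | add x x' _ _ hx hx' =>
      intro c
      obtain ⟨u, hu, hu₁, hu₂⟩ := hx c
      obtain ⟨v, hv, hv₁, hv₂⟩ := hx' c
      exact ⟨u + v, Ideal.add_mem _ hu hv, by rw [map_add, hu₁, hv₁, add_zero], by rw [map_add, hu₂, hv₂, mul_add]⟩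
    | smul r x _ hx => exact fun c => by simpa [mul_assoc] using hx (c * r)
  -- the restriction to `A₂`
  let c : pushout p₂ σ ⟶ S₂ := pushout.desc σ₂ π₂ w₂
  have hcl : pushout.inl p₂ σ ≫ c = σ₂ := pushout.inl_desc _ _ _
  have hcr : pushout.inr p₂ σ ≫ c = π₂ := pushout.inr_desc _ _ _
  have hcs : Function.Surjective c := fun y => by
    induction hT y using AddSubmonoid.closure_induction with
    | mem y hy =>
      obtain ⟨α, s, rfl⟩ := hy
      exact ⟨pushout.inl p₂ σ α * pushout.inr p₂ σ s, by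
        rw [map_mul, ← CommRingCat.comp_apply, ← CommRingCat.comp_apply, hcl, hcr]⟩
    | zero => exact ⟨0, map_zero _⟩
    | add a b _ _ ha hb =>
      obtain ⟨u, rfl⟩ := ha
      obtain ⟨v, rfl⟩ := hb
      exact ⟨u + v, map_add _ _ _⟩
  have hout : IsPushout f₂ (pushout.inl p₂ σ) σ₀ (c ≫ φ₂) := by
    refine IsPushout.of_left (h₁₁ := p₂) (v₁₁ := σ) (h₂₁ := pushout.inr p₂ σ) ?_ (by rw [← Category.assoc, hcl, s₂.w]) (IsPushout.of_hasPushout p₂ σ).flip.flip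
    rw [← Category.assoc, hcr, hw, hwS]
    exact hpush₁.paste_horiz s₁
  have hci : Function.Injective c := (injective_iff_map_eq_zero _).2 fun z hz => by
    have hmem := Pinch2.mem_map_ker_of_isPushout hout hf₂ (y := z) (by rw [CommRingCat.comp_apply, hz, map_zero])
    suffices ∀ z ∈ I.map (pushout.inl p₂ σ).hom, ∀ w, ∃ r, pushout.inr p₂ σ r = w * z ∧ π₁ r = 0 by
      obtain ⟨r, hr, hr₁⟩ := this z hmem 1
      rw [one_mul] at hr
      rw [← hr, hS.1 r 0 (by rw [← hcr, CommRingCat.comp_apply, hr, hz, map_zero]) (by rw [hr₁, map_zero]), map_zero]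
    intro z hz
    induction hz using Submodule.span_induction with
    | mem z hz =>
      obtain ⟨i, hi, rfl⟩ := hz
      intro w
      refine induction_pushout (IsPushout.of_hasPushout p₂ σ)
        (motive := fun w => ∃ r, pushout.inr p₂ σ r = w * pushout.inl p₂ σ i ∧ π₁ r = 0)
        ⟨0, by rw [map_zero, zero_mul], map_zero _⟩
        (fun x y ⟨u, hu, hu'⟩ ⟨v, hv, hv'⟩ => ⟨u + v, by rw [map_add, hu, hv, add_mul], by rw [map_add, hu', hv', add_zero]⟩)
        (fun α s => ?_) w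
      obtain ⟨j, hj₂, hj₁⟩ := hB.2 (α * i) 0 (by rw [map_zero, map_mul, RingHom.mem_ker.1 hi, mul_zero])
      refine ⟨σ j * s, ?_, by rw [map_mul, ← CommRingCat.comp_apply, ← w₁, CommRingCat.comp_apply, hj₁, map_zero, zero_mul]⟩
      rw [map_mul, ← CommRingCat.comp_apply σ, ← pushout.condition, CommRingCat.comp_apply, hj₂, map_mul]
      ring
    | zero => exact fun w => ⟨0, by rw [map_zero, mul_zero], map_zero _⟩
    | add x x' _ _ hx hx' =>
      intro w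
      obtain ⟨u, hu, hu₁⟩ := hx w
      obtain ⟨v, hv, hv₁⟩ := hx' w
      exact ⟨u + v, by rw [map_add, hu, hv, mul_add], by rw [map_add, hu₁, hv₁, add_zero]⟩
    | smul r x _ hx => exact fun w => by simpa [mul_assoc] using hx (w * r)
  haveI : IsIso c := (ConcreteCategory.isIso_iff_bijective c).2 ⟨hci, hcs⟩
  have hpush₂ : IsPushout p₂ σ σ₂ π₂ :=
    IsPushout.of_iso (IsPushout.of_hasPushout p₂ σ) (Iso.refl _) (Iso.refl _) (Iso.refl _) (asIso c)
      (by simp) (by simp) (by simp [hcl]) (by simp [hcr])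
  refine ⟨?_, hpush₁, hpush₂⟩
  -- flatness
  algebraize [p₁.hom, p₂.hom, f₁.hom, f₂.hom, σ.hom, σ₁.hom, σ₂.hom, π₁.hom, π₂.hom, f₁.hom.comp p₁.hom,
    σ₁.hom.comp p₁.hom, σ₂.hom.comp p₂.hom]
  haveI : IsScalarTower B A₂ A := IsScalarTower.of_algebraMap_eq' congr($(hw).hom).symm
  haveI : IsScalarTower B S S₁ := IsScalarTower.of_algebraMap_eq' congr($(w₁).hom)
  haveI : IsScalarTower B S S₂ := IsScalarTower.of_algebraMap_eq' congr($(w₂).hom)
  have hsq : EtMil.IsFibreSquare B A₁ A₂ A := ⟨hf₂, fun a₁ a₂ h => by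
    obtain ⟨b, hb₂, hb₁⟩ := hB.2 a₂ a₁ h.symm
    exact ⟨b, ⟨hb₁, hb₂⟩, fun b' hb' => hB.1 _ _ (hb'.2.trans hb₂.symm) (hb'.1.trans hb₁.symm)⟩⟩
  haveI : Algebra.IsPushout B A₁ S S₁ := (CommRingCat.isPushout_iff_isPushout (R := B) (R' := A₁) (S := S) (S' := S₁)).1 hpush₁
  haveI : Algebra.IsPushout B A₂ S S₂ := (CommRingCat.isPushout_iff_isPushout (R := B) (R' := A₂) (S := S) (S' := S₂)).1 hpush₂
  haveI : Module.Flat A₁ S₁ := h₁
  haveI : Module.Flat A₂ S₂ := h₂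
  haveI : Module.Flat A₁ (A₁ ⊗[B] S) := Module.Flat.of_linearEquiv (Algebra.IsPushout.equiv B A₁ S S₁).toLinearEquiv
  haveI : Module.Flat A₂ (A₂ ⊗[B] S) := Module.Flat.of_linearEquiv (Algebra.IsPushout.equiv B A₂ S S₂).toLinearEquiv
  exact Glue24.Milnor.flat (L' := S) hsq

end Groth.Agent.Def38
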