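import Groth.Agent.Def38.Affine
import Groth.Agent.ArtF85.Tangent
import Groth.Agent.Deform85.FlatLift
import Mathlib

/-! First-order deformations of `Spec (k[X]/I)` from homomorphisms `I → k[X]/I`. -/

set_option autoImplicit false
set_option linter.unusedSectionVars false
set_option linter.unusedSimpArgs false
set_option linter.style.haveILetI false
set_option backward.isDefEq.respectTransparency.types false

universe u

open CategoryTheory CategoryTheory.Limits AlgebraicGeometry MvPolynomial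
open ArtFun ArtFun.Art

noncomputable section

namespace Groth.Agent.Def38

variable {Λ k : Type u} [CommRing Λ] [Field k] [Algebra Λ k] {n : ℕ} {ι κ : Type} [Fintype ι] [Fintype κ]
  [DecidableEq ι] [DecidableEq κ]


/-- The polynomial ring. -/
abbrev Poly (k : Type u) [Field k] (n : ℕ) : Type u := MvPolynomial (Fin n) k

/-- The target of the structure map: `k[X] ⊕ k[X]^ι`. -/
abbrev Dual' (k : Type u) [Field k] (n : ℕ) (ι : Type) : Type u :=
  TrivSqZeroExt (MvPolynomial (Fin n) k) (ι → MvPolynomial (Fin n) k)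

/-- Extension of scalars. -/
def tC : TrivSqZeroExt k (ι → k) →+* Dual' k n ι where
  toFun z := TrivSqZeroExt.inl (C z.fst) + TrivSqZeroExt.inr (fun i => C (z.snd i))
  map_one' := TrivSqZeroExt.ext (by simp) (by funext i; simp)
  map_mul' x y := TrivSqZeroExt.ext (by simp) (by funext i; simp [mul_comm])
  map_zero' := TrivSqZeroExt.ext (by simp) (by funext i; simp)
  map_add' x y := TrivSqZeroExt.ext (by simp) (by funext i; simp)

@[simp] lemma fst_tC (z : TrivSqZeroExt k (ι → k)) : (tC (n := n) z).fst = C z.fst := by simp [tC]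
@[simp] lemma snd_tC (z : TrivSqZeroExt k (ι → k)) (i : ι) : (tC (n := n) z).snd i = C (z.snd i) := by simp [tC]

variable {I : Ideal (Poly k n)}

/-- The ideal of the first-order deformation attached to `φ`. -/
def defIdeal (φ : ι → (I →ₗ[(Poly k n)] (Poly k n) ⧸ I)) : Ideal (Dual' k n ι) where
  carrier := {z | ∃ h : z.fst ∈ I, ∀ i, φ i ⟨z.fst, h⟩ = Ideal.Quotient.mk I (z.snd i)}
  zero_mem' := ⟨by simp, fun i => by
    have : (⟨(0 : Dual' k n ι).fst, by simp⟩ : I) = 0 := Subtype.ext (by simp)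
    rw [this, map_zero]; simp⟩
  add_mem' := by
    rintro z w ⟨hz, ez⟩ ⟨hw, ew⟩
    refine ⟨by simpa using I.add_mem hz hw, fun i => ?_⟩
    have : (⟨(z + w).fst, by simpa using I.add_mem hz hw⟩ : I) = ⟨z.fst, hz⟩ + ⟨w.fst, hw⟩ := Subtype.ext (by simp)
    rw [this, map_add, ez, ew]; simp
  smul_mem' := by
    rintro c z ⟨hz, ez⟩
    refine ⟨by simpa using I.mul_mem_left c.fst hz, fun i => ?_⟩
    have : (⟨(c • z).fst, by simpa using I.mul_mem_left c.fst hz⟩ : I) = c.fst • ⟨z.fst, hz⟩ :=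
      Subtype.ext (by simp)
    rw [this, map_smul, ez]
    simp only [smul_eq_mul, TrivSqZeroExt.snd_mul, Pi.add_apply, Pi.smul_apply, map_add, op_smul_eq_smul, map_mul,
      Ideal.Quotient.eq_zero_iff_mem.2 hz, zero_mul, add_zero]
    rfl

lemma mem_defIdeal {φ : ι → (I →ₗ[(Poly k n)] (Poly k n) ⧸ I)} {z : Dual' k n ι} :
    z ∈ defIdeal φ ↔ ∃ h : z.fst ∈ I, ∀ i, φ i ⟨z.fst, h⟩ = Ideal.Quotient.mk I (z.snd i) := Iff.rfl

lemma inr_mem_defIdeal (φ : ι → (I →ₗ[(Poly k n)] (Poly k n) ⧸ I)) (v : ι → (Poly k n)) (hv : ∀ i, v i ∈ I) :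
    (TrivSqZeroExt.inr v : Dual' k n ι) ∈ defIdeal φ := by
  refine ⟨by simp, fun i => ?_⟩
  have : (⟨(TrivSqZeroExt.inr v : Dual' k n ι).fst, by simp⟩ : I) = 0 := Subtype.ext (by simp)
  rw [this, map_zero]
  simp [Ideal.Quotient.eq_zero_iff_mem.2 (hv i)]

/-- Coordinates on a first-order test object. -/
structure Coord (A : Art Λ k) (ι : Type) where
  θ : A →+* TrivSqZeroExt k (ι → k)
  bij : Function.Bijective θ
  fst_θ : ∀ a, (θ a).fst = A.res a

variable (I)

/-- The structure morphism of `Spec (k[X]/I)`. -/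
abbrev x₀ : Spec (CommRingCat.of ((Poly k n) ⧸ I)) ⟶ specPt k := str k ((Poly k n) ⧸ I)

variable {I} {A A' : Art Λ k}

/-- The structure map of the deformation. -/
def strMap (c : Coord A ι) (φ : ι → (I →ₗ[(Poly k n)] (Poly k n) ⧸ I)) :
    CommRingCat.of A ⟶ CommRingCat.of (Dual' k n ι ⧸ defIdeal φ) :=
  CommRingCat.ofHom ((Ideal.Quotient.mk (defIdeal φ)).comp (tC.comp c.θ))

/-- The restriction to the closed fibre. -/
def fibMap (φ : ι → (I →ₗ[(Poly k n)] (Poly k n) ⧸ I)) : CommRingCat.of (Dual' k n ι ⧸ defIdeal φ) ⟶ CommRingCat.of ((Poly k n) ⧸ I) :=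
  CommRingCat.ofHom (Ideal.Quotient.lift (defIdeal φ)
    ((Ideal.Quotient.mk I).comp (TrivSqZeroExt.fstHom (Poly k n) (Poly k n) (ι → (Poly k n))).toRingHom)
    fun _ hz => Ideal.Quotient.eq_zero_iff_mem.2 hz.1)

@[simp] lemma fibMap_mk (φ : ι → (I →ₗ[(Poly k n)] (Poly k n) ⧸ I)) (z : Dual' k n ι) :
    fibMap φ (Ideal.Quotient.mk (defIdeal φ) z) = Ideal.Quotient.mk I z.fst :=
  Ideal.Quotient.lift_mk _ _ _

lemma mem_map_of_fst_mem (c : Coord A ι) (φ : ι → (I →ₗ[(Poly k n)] (Poly k n) ⧸ I)) {z : Dual' k n ι} (hz : z.fst ∈ I) :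
    Ideal.Quotient.mk (defIdeal φ) z ∈ (IsLocalRing.maximalIdeal A).map (strMap c φ).hom := by
  choose b hb using fun i => Ideal.Quotient.mk_surjective (φ i ⟨z.fst, hz⟩)
  choose a ha using fun i => c.bij.2 (TrivSqZeroExt.inr (Pi.single i (1 : k)))
  have key : Ideal.Quotient.mk (defIdeal φ) z = ∑ i,
      Ideal.Quotient.mk (defIdeal φ) (TrivSqZeroExt.inl (z.snd i - b i)) * (strMap c φ) (a i) := by
    have hz0 : (TrivSqZeroExt.inl z.fst + TrivSqZeroExt.inr b : Dual' k n ι) ∈ defIdeal φ :=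
      ⟨by simpa using hz, fun i => by simp [hb]⟩
    have hzz : z = (TrivSqZeroExt.inl z.fst + TrivSqZeroExt.inr b) +
        ∑ i, TrivSqZeroExt.inl (z.snd i - b i) * tC (c.θ (a i)) := by
      refine TrivSqZeroExt.ext ?_ (funext fun j => ?_)
      · simp [ha, TrivSqZeroExt.fst_sum]
      · simp [ha, TrivSqZeroExt.snd_sum, Finset.sum_apply, Pi.single_apply, apply_ite (C (σ := Fin n) (R := k)),
          op_smul_eq_smul]
    conv_lhs => rw [hzz, map_add, Ideal.Quotient.eq_zero_iff_mem.2 hz0, zero_add, map_sum]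
    simp only [map_mul]
    rfl
  rw [key]
  refine Ideal.sum_mem _ fun i _ => Ideal.mul_mem_left _ _ (Ideal.mem_map_of_mem _ ?_)
  rw [mem_maximalIdeal_iff, ← c.fst_θ, ha, TrivSqZeroExt.fst_inr]

/-- Flatness of a ring map out of a local ring with square-zero maximal ideal spanned by `v`. -/
theorem flat_hom_of_square_zero {ι : Type} [Fintype ι] {R M : Type u} [CommRing R] [IsLocalRing R] [IsArtinianRing R]
    [CommRing M] (f : R →+* M) (v : ι → R) (hv : ∀ i, v i ∈ IsLocalRing.maximalIdeal R)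
    (hspan : IsLocalRing.maximalIdeal R ≤ Ideal.span (Set.range v)) (hsq : ∀ i j, v i * v j = 0)
    (h : ∀ x : ι → M, ∑ i, f (v i) * x i = 0 → ∀ i, x i ∈ (IsLocalRing.maximalIdeal R).map f) : f.Flat := by
  letI := f.toAlgebra
  refine flat_of_square_zero v hv hspan hsq fun x hx i => ?_
  rw [Ideal.smul_top_eq_map, Submodule.restrictScalars_mem]
  exact h x hx i

/-- The first-order deformation attached to `φ`. -/
def mkDef (c : Coord A ι) (φ : ι → (I →ₗ[(Poly k n)] (Poly k n) ⧸ I)) : DefSch (Spec (CommRingCat.of ((Poly k n) ⧸ I))) (x₀ I) A where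
  total := Spec (CommRingCat.of (Dual' k n ι ⧸ defIdeal φ))
  f := Spec.map (strMap c φ)
  flat := by
    refine (HasRingHomProperty.Spec_iff (P := @Flat)).2 ?_
    choose v hv using fun i => c.bij.2 (TrivSqZeroExt.inr (Pi.single i (1 : k)))
    refine flat_hom_of_square_zero (R := A) _ v (fun i => ?_) (fun a ha => ?_) (fun i j => c.bij.1 ?_) fun y hy i => ?_
    · rw [mem_maximalIdeal_iff, ← c.fst_θ, hv, TrivSqZeroExt.fst_inr]
    · choose w hw using fun i => c.bij.2 (TrivSqZeroExt.inl ((c.θ a).snd i))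
      refine Ideal.mem_span_range_iff_exists_fun.2 ⟨w, c.bij.1 ?_⟩
      have h0 : (c.θ a).fst = 0 := by rw [c.fst_θ, ← mem_maximalIdeal_iff]; exact ha
      refine TrivSqZeroExt.ext ?_ (funext fun j => ?_)
      · simp [map_sum, hw, hv, TrivSqZeroExt.fst_sum, h0]
      · simp [map_sum, hw, hv, TrivSqZeroExt.snd_sum, Finset.sum_apply, Pi.single_apply]
    · rw [map_mul, hv, hv, map_zero, TrivSqZeroExt.inr_mul_inr]
    · choose z hz using fun i => Ideal.Quotient.mk_surjective (y i)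
      rw [← hz i]
      refine mem_map_of_fst_mem c φ ?_
      have h1 : (TrivSqZeroExt.inr (fun j => (z j).fst) : Dual' k n ι) ∈ defIdeal φ := by
        rw [← Ideal.Quotient.eq_zero_iff_mem, ← hy]
        have e : (TrivSqZeroExt.inr (fun j => (z j).fst) : Dual' k n ι) = ∑ j, tC (c.θ (v j)) * z j := by
          refine TrivSqZeroExt.ext ?_ (funext fun l => ?_)
          · simp [hv, TrivSqZeroExt.fst_sum]
          · simp [hv, TrivSqZeroExt.snd_sum, Finset.sum_apply, Pi.single_apply, apply_ite (C (σ := Fin n) (R := k)),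
              op_smul_eq_smul]
        rw [e, map_sum]
        refine Finset.sum_congr rfl fun j _ => ?_
        rw [map_mul, hz]
        rfl
      obtain ⟨h0, h2⟩ := h1
      have h3 := h2 i
      have : (⟨(TrivSqZeroExt.inr (fun j => (z j).fst) : Dual' k n ι).fst, h0⟩ : I) = 0 := Subtype.ext (by simp)
      rw [this, map_zero, eq_comm, Ideal.Quotient.eq_zero_iff_mem] at h3
      simpa using h3
  i := Spec.map (fibMap φ)
  isPullback := by
    refine (isPullback_SpecMap_of_isPushout _ _ _ _ (Pinch2.isPushout_of_surjective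
      (φ := CommRingCat.ofHom A.res.toRingHom) (ρ := strMap c φ)
      (ρA := CommRingCat.ofHom (algebraMap k ((Poly k n) ⧸ I))) (φ' := fibMap φ) ?_ A.res_surjective ?_ ?_)).flip
    · refine CommRingCat.hom_ext (RingHom.ext fun a => ?_)
      refine Eq.trans ?_ (fibMap_mk φ _).symm
      simp only [RingHom.comp_apply, fst_tC, c.fst_θ]
      rfl
    · intro y
      obtain ⟨y, rfl⟩ := Ideal.Quotient.mk_surjective y
      exact ⟨Ideal.Quotient.mk (defIdeal φ) (TrivSqZeroExt.inl y), (fibMap_mk φ _).trans (congrArg _ (TrivSqZeroExt.fst_inl _ y))⟩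
    · intro r hr
      obtain ⟨z, rfl⟩ := Ideal.Quotient.mk_surjective r
      rw [fibMap_mk, Ideal.Quotient.eq_zero_iff_mem] at hr
      exact Ideal.map_mono (ker_res A).ge (mem_map_of_fst_mem c φ hr)

/-- A ring map compatible with the structure maps gives an arrow. -/
theorem map_cl_of_ringHom {g : A ⟶ A'} (c : Coord A ι) (φ : ι → (I →ₗ[(Poly k n)] (Poly k n) ⧸ I)) (c' : Coord A' κ)
    (ψ : κ → (I →ₗ[(Poly k n)] (Poly k n) ⧸ I)) (G : Dual' k n ι →+* Dual' k n κ) (hG : defIdeal φ ≤ (defIdeal ψ).comap G)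
    (hfst : ∀ z, (G z).fst = z.fst) (hθ : ∀ a, G (tC (c.θ a)) = tC (c'.θ (g a))) :
    (defFunctor _ (x₀ I)).map g (mkDef c φ).cl = (mkDef c' ψ).cl := by
  let h : CommRingCat.of (Dual' k n ι ⧸ defIdeal φ) ⟶ CommRingCat.of (Dual' k n κ ⧸ defIdeal ψ) :=
    CommRingCat.ofHom (Ideal.quotientMap (defIdeal ψ) G hG)
  obtain ⟨α⟩ := exists_arrow_of_hom (g := g) (ξ := mkDef c φ) (η := mkDef c' ψ) (Spec.map h) (by
      show Spec.map h ≫ Spec.map (strMap c φ) = Spec.map (strMap c' ψ) ≫ Spec.map (cr g)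
      rw [← Spec.map_comp, ← Spec.map_comp]
      exact congrArg Spec.map (CommRingCat.hom_ext (RingHom.ext fun a =>
        (Ideal.quotientMap_mk (H := hG)).trans (congrArg (Ideal.Quotient.mk _) (hθ a))))) (by
      show Spec.map (fibMap ψ) ≫ Spec.map h = Spec.map (fibMap φ)
      rw [← Spec.map_comp]
      refine congrArg Spec.map (CommRingCat.hom_ext (RingHom.ext fun y => ?_))
      obtain ⟨z, rfl⟩ := Ideal.Quotient.mk_surjective y
      show fibMap ψ (h (Ideal.Quotient.mk _ z)) = fibMap φ (Ideal.Quotient.mk _ z)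
      exact (fibMap_mk ψ (G z)).trans ((congrArg _ (hfst z)).trans (fibMap_mk φ z).symm))
  exact α.map_cl

/-- Functoriality of trivial square-zero extensions, as a ring map. -/
def mapR {R M N : Type u} [CommRing R] [AddCommGroup M] [AddCommGroup N] [Module R M] [Module R N]
    [Module Rᵐᵒᵖ M] [Module Rᵐᵒᵖ N] [IsCentralScalar R M] [IsCentralScalar R N] (L : M →ₗ[R] N) :
    TrivSqZeroExt R M →+* TrivSqZeroExt R N :=
  (TrivSqZeroExt.map L).toRingHom

@[simp] lemma fst_mapR {R M N : Type u} [CommRing R] [AddCommGroup M] [AddCommGroup N] [Module R M] [Module R N]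
    [Module Rᵐᵒᵖ M] [Module Rᵐᵒᵖ N] [IsCentralScalar R M] [IsCentralScalar R N] (L : M →ₗ[R] N)
    (z : TrivSqZeroExt R M) : (mapR L z).fst = z.fst := TrivSqZeroExt.fst_map L z

@[simp] lemma snd_mapR {R M N : Type u} [CommRing R] [AddCommGroup M] [AddCommGroup N] [Module R M] [Module R N]
    [Module Rᵐᵒᵖ M] [Module Rᵐᵒᵖ N] [IsCentralScalar R M] [IsCentralScalar R N] (L : M →ₗ[R] N)
    (z : TrivSqZeroExt R M) : (mapR L z).snd = L z.snd := TrivSqZeroExt.snd_map L z

/-- The map of coefficients given by a matrix. -/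
def matMap (M : κ → ι → k) : Dual' k n ι →+* Dual' k n κ :=
  mapR (LinearMap.pi fun j => ∑ i, (C (M j i) : Poly k n) • LinearMap.proj (R := (Poly k n)) (φ := fun _ : ι => (Poly k n)) i)

lemma fst_matMap (M : κ → ι → k) (z : Dual' k n ι) : (matMap M z).fst = z.fst := fst_mapR _ _

lemma snd_matMap (M : κ → ι → k) (z : Dual' k n ι) (j : κ) :
    (matMap M z).snd j = ∑ i, C (M j i) * z.snd i := by
  rw [show (matMap M z).snd = _ from snd_mapR _ _]
  simp [LinearMap.sum_apply]

theorem map_cl_matrix {g : A ⟶ A'} (c : Coord A ι) (c' : Coord A' κ) (M : κ → ι → k)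
    (hM : ∀ a j, (c'.θ (g a)).snd j = ∑ i, M j i * (c.θ a).snd i) (φ : ι → (I →ₗ[(Poly k n)] (Poly k n) ⧸ I))
    (ψ : κ → (I →ₗ[(Poly k n)] (Poly k n) ⧸ I)) (hψ : ∀ j, ψ j = ∑ i, M j i • φ i) :
    (defFunctor _ (x₀ I)).map g (mkDef c φ).cl = (mkDef c' ψ).cl := by
  refine map_cl_of_ringHom c φ c' ψ (matMap M) ?_ (fst_matMap M) fun a => ?_
  · rintro z ⟨hz, hφ⟩
    show matMap M z ∈ defIdeal ψ
    refine ⟨by rw [fst_matMap]; exact hz, fun j => ?_⟩
    have : (⟨(matMap M z).fst, by rw [fst_matMap]; exact hz⟩ : I) = ⟨z.fst, hz⟩ := Subtype.ext (fst_matMap M z)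
    rw [this, hψ, LinearMap.sum_apply, snd_matMap, map_sum]
    refine Finset.sum_congr rfl fun i _ => ?_
    rw [LinearMap.smul_apply, hφ, map_mul, ← smul_eq_mul]
    exact (algebraMap_smul (Poly k n) (M j i) _).symm
  · refine TrivSqZeroExt.ext ?_ (funext fun j => ?_)
    · rw [fst_matMap, fst_tC, fst_tC, c.fst_θ, c'.fst_θ, res_app g]
    · simp [snd_matMap, hM, map_sum]

variable (Λ k)

/-- Coordinates on the dual numbers, as a ring map. -/
def θ₁ : DualNumber k →+* TrivSqZeroExt k (Fin 1 → k) where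
  toFun z := TrivSqZeroExt.inl (TrivSqZeroExt.fst z) + TrivSqZeroExt.inr (fun _ => TrivSqZeroExt.snd z)
  map_one' := TrivSqZeroExt.ext (by simp) (by funext i; simp)
  map_mul' x y := TrivSqZeroExt.ext (by simp) (by funext i; simp [mul_comm])
  map_zero' := TrivSqZeroExt.ext (by simp) (by funext i; simp)
  map_add' x y := TrivSqZeroExt.ext (by simp) (by funext i; simp)

/-- Coordinates on `k[ε₁, ε₂]`, as a ring map. -/
def θ₂ : TrivSqZeroExt k (k × k) →+* TrivSqZeroExt k (Fin 2 → k) where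
  toFun z := TrivSqZeroExt.inl z.fst + TrivSqZeroExt.inr ![z.snd.1, z.snd.2]
  map_one' := TrivSqZeroExt.ext (by simp) (by funext i; fin_cases i <;> simp)
  map_mul' x y := TrivSqZeroExt.ext (by simp) (by funext i; fin_cases i <;> simp [mul_comm])
  map_zero' := TrivSqZeroExt.ext (by simp) (by funext i; fin_cases i <;> simp)
  map_add' x y := TrivSqZeroExt.ext (by simp) (by funext i; fin_cases i <;> simp)

lemma fst_θ₁ (z : DualNumber k) : (θ₁ k z).fst = TrivSqZeroExt.fst z := by simp [θ₁]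

lemma snd_θ₁ (z : DualNumber k) (i : Fin 1) : (θ₁ k z).snd i = TrivSqZeroExt.snd z := by simp [θ₁]

lemma fst_θ₂ (z : TrivSqZeroExt k (k × k)) : (θ₂ k z).fst = z.fst := by simp [θ₂]

lemma snd_θ₂ (z : TrivSqZeroExt k (k × k)) : (θ₂ k z).snd = ![z.snd.1, z.snd.2] := by simp [θ₂]

/-- Coordinates on the dual numbers. -/
def coord1 : Coord (dual Λ k) (Fin 1) where
  θ := θ₁ k
  bij := ⟨fun (a : DualNumber k) (b : DualNumber k) (h : θ₁ k a = θ₁ k b) => TrivSqZeroExt.ext
      (by rw [← fst_θ₁ k a, h, fst_θ₁]) (by rw [← snd_θ₁ k a 0, h, snd_θ₁]),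
    fun z => ⟨(TrivSqZeroExt.inl z.fst + TrivSqZeroExt.inr (z.snd 0) : DualNumber k),
      TrivSqZeroExt.ext ((fst_θ₁ k _).trans (by simp))
        (funext fun i => (snd_θ₁ k _ i).trans (by rw [Subsingleton.elim i 0]; simp))⟩⟩
  fst_θ a := fst_θ₁ k a

/-- Coordinates on `k[ε₁, ε₂]`. -/
def coord2 : Coord (dual2 Λ k) (Fin 2) where
  θ := θ₂ k
  bij := ⟨fun (a : TrivSqZeroExt k (k × k)) (b : TrivSqZeroExt k (k × k)) (h : θ₂ k a = θ₂ k b) =>
      have e : ![a.snd.1, a.snd.2] = ![b.snd.1, b.snd.2] := by rw [← snd_θ₂, h, snd_θ₂]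
      TrivSqZeroExt.ext (by rw [← fst_θ₂ k a, h, fst_θ₂]) (Prod.ext (congrFun e 0) (congrFun e 1)),
    fun z => ⟨(TrivSqZeroExt.inl z.fst + TrivSqZeroExt.inr (z.snd 0, z.snd 1) : TrivSqZeroExt k (k × k)),
      TrivSqZeroExt.ext ((fst_θ₂ k _).trans (by simp))
        ((snd_θ₂ k _).trans (funext fun i => by fin_cases i <;> simp))⟩⟩
  fst_θ a := fst_θ₂ k a

variable {Λ k}

lemma snd_coord1 (a : dual Λ k) (i : Fin 1) : ((coord1 Λ k).θ a).snd i = (a : DualNumber k).snd :=
  snd_θ₁ k a i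

lemma snd_coord2_zero (a : dual2 Λ k) : ((coord2 Λ k).θ a).snd 0 = (a : TrivSqZeroExt k (k × k)).snd.1 :=
  congrFun (snd_θ₂ k a) 0

lemma snd_coord2_one (a : dual2 Λ k) : ((coord2 Λ k).θ a).snd 1 = (a : TrivSqZeroExt k (k × k)).snd.2 :=
  congrFun (snd_θ₂ k a) 1

/-- The class of the deformation attached to `φ`. -/
def tangentClass (Λ : Type u) [CommRing Λ] [Algebra Λ k] (φ : I →ₗ[(Poly k n)] (Poly k n) ⧸ I) :
    (defFunctor (Λ := Λ) _ (x₀ I)).obj (dual Λ k) :=
  (mkDef (coord1 Λ k) fun _ => φ).cl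

variable (I) in
/-- `φ ↦` its class, as a linear map. -/
def tangentLinear [T : TangentStr (defFunctor (Λ := Λ) _ (x₀ I))] :
    (I →ₗ[(Poly k n)] (Poly k n) ⧸ I) →ₗ[k] TangentSpace (defFunctor (Λ := Λ) _ (x₀ I)) where
  toFun φ := tangentClass Λ φ
  map_add' φ ψ := by
    let z := (mkDef (coord2 Λ k) ![φ, ψ]).cl
    have h₁ : (defFunctor (Λ := Λ) _ (x₀ I)).map pr₁ z = tangentClass Λ φ :=
      map_cl_matrix _ _ (fun _ => ![1, 0]) (fun a j => by
        rw [snd_coord1, Fin.sum_univ_two, snd_coord2_zero]; simp [pr₁]; exact snd_tszeMap _ _) _ _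
        fun j => by simp [Fin.sum_univ_two]
    have h₂ : (defFunctor (Λ := Λ) _ (x₀ I)).map pr₂ z = tangentClass Λ ψ :=
      map_cl_matrix _ _ (fun _ => ![0, 1]) (fun a j => by
        rw [snd_coord1, Fin.sum_univ_two, snd_coord2_one]; simp [pr₂]; exact snd_tszeMap _ _) _ _
        fun j => by simp [Fin.sum_univ_two]
    have h₃ : (defFunctor (Λ := Λ) _ (x₀ I)).map plus z = tangentClass Λ (φ + ψ) :=
      map_cl_matrix _ _ (fun _ => ![1, 1]) (fun a j => by
        rw [snd_coord1, Fin.sum_univ_two, snd_coord2_zero, snd_coord2_one]; simp [plus]; exact snd_tszeMap _ _) _ _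
        fun j => by simp [Fin.sum_univ_two]
    have h := T.add_eq z
    rw [h₁, h₂, h₃] at h
    exact h.symm
  map_smul' c φ := by
    have h₁ : (defFunctor (Λ := Λ) _ (x₀ I)).map (scale c) (tangentClass Λ φ) = tangentClass Λ (c • φ) :=
      map_cl_matrix _ _ (fun _ _ => c) (fun a j => by
        rw [snd_coord1]; simp [scale, snd_coord1]; exact snd_tszeMap _ _) _ _ fun j => by simp
    exact h₁.symm.trans (T.smul_eq c _).symm

lemma tangentLinear_apply [TangentStr (defFunctor (Λ := Λ) _ (x₀ I))] (φ : I →ₗ[(Poly k n)] (Poly k n) ⧸ I) :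
    tangentLinear I φ = (tangentClass Λ φ : TangentSpace (defFunctor (Λ := Λ) _ (x₀ I))) := rfl

/-- The homomorphism given by a derivation of the polynomial ring. -/
def delta (I : Ideal (Poly k n)) : (Fin n → (Poly k n)) →ₗ[(Poly k n)] (I →ₗ[(Poly k n)] (Poly k n) ⧸ I) where
  toFun v :=
    { toFun := fun a => Ideal.Quotient.mk I (∑ i, pderiv i a.1 * v i)
      map_add' := fun a b => by simp [add_mul, Finset.sum_add_distrib]
      map_smul' := fun c a => by
        simp only [SetLike.val_smul, smul_eq_mul, Derivation.leibniz, RingHom.id_apply, add_mul,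
          Finset.sum_add_distrib, map_add, mul_assoc, ← Finset.mul_sum]
        have : Ideal.Quotient.mk I ((a : (Poly k n)) * ∑ i, pderiv i c * v i) = 0 :=
          Ideal.Quotient.eq_zero_iff_mem.2 (I.mul_mem_right _ a.2)
        rw [this, add_zero]
        rfl }
  map_add' v w := LinearMap.ext fun a => by simp [mul_add, Finset.sum_add_distrib]
  map_smul' c v := LinearMap.ext fun a => by
    simp only [LinearMap.coe_mk, AddHom.coe_mk, Pi.smul_apply, smul_eq_mul, RingHom.id_apply, LinearMap.smul_apply,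
      mul_left_comm _ c, ← Finset.mul_sum]
    rfl

lemma delta_apply (v : Fin n → (Poly k n)) (a : I) : delta I v a = Ideal.Quotient.mk I (∑ i, pderiv i a.1 * v i) := rfl

/-- The homomorphisms given by derivations give the trivial class. -/
theorem tangentClass_delta (v : Fin n → (Poly k n)) :
    tangentClass Λ (delta I v) = tangentClass Λ (0 : I →ₗ[(Poly k n)] (Poly k n) ⧸ I) := by
  let D : (Poly k n) → (Poly k n) := fun a => ∑ i, pderiv i a * v i
  let G : Dual' k n (Fin 1) →+* Dual' k n (Fin 1) :=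
    { toFun := fun z => z + TrivSqZeroExt.inr (fun _ => D z.fst)
      map_one' := TrivSqZeroExt.ext (by simp) (funext fun _ => by simp [D])
      map_zero' := TrivSqZeroExt.ext (by simp) (funext fun _ => by simp [D])
      map_mul' := fun z w => TrivSqZeroExt.ext (by simp) (funext fun _ => by
        simp [D, Derivation.leibniz, add_mul, Finset.sum_add_distrib, mul_assoc, ← Finset.mul_sum,
          op_smul_eq_smul, mul_add]
        ring)
      map_add' := fun z w => TrivSqZeroExt.ext (by simp) (funext fun _ => by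
        simp [D, add_mul, Finset.sum_add_distrib]; ring) }
  have h := map_cl_of_ringHom (g := 𝟙 (dual Λ k)) (coord1 Λ k) (fun _ => (0 : I →ₗ[(Poly k n)] (Poly k n) ⧸ I)) (coord1 Λ k)
    (fun _ => delta I v) G ?_ (fun z => by simp [G]) fun a => ?_
  · rw [ArtF85.map_id_apply] at h
    exact h.symm
  · rintro z ⟨hz, h0⟩
    show G z ∈ defIdeal _
    refine ⟨by simpa [G] using hz, fun j => ?_⟩
    have e : (⟨(G z).fst, by simpa [G] using hz⟩ : I) = ⟨z.fst, hz⟩ := Subtype.ext (by simp [G])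
    rw [e, delta_apply, show (G z).snd j = z.snd j + D z.fst by simp [G], map_add, ← h0 j,
      LinearMap.zero_apply, zero_add]
  · refine TrivSqZeroExt.ext (by simp [G]) (funext fun _ => ?_)
    simp [G, D, ArtFun.Art.id_apply]

/-- Every first-order deformation comes from a homomorphism. -/
theorem tangentClass_surjective (z : (defFunctor (Λ := Λ) _ (x₀ I)).obj (dual Λ k)) :
    ∃ φ : I →ₗ[(Poly k n)] (Poly k n) ⧸ I, tangentClass Λ φ = z := by
  obtain ⟨ξ, rfl⟩ := Quotient.exists_rep z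
  obtain ⟨hae, hξ⟩ := exists_chart ξ
  obtain ⟨σ, τ, hσ, hτ, hflat, hτs, hτk⟩ := hξ hae
  let B := Γ(ξ.total, ⊤)
  let ε : dual Λ k := (TrivSqZeroExt.inr (1 : k) : DualNumber k)
  let inl' : k →+* (dual Λ k : Type u) := (TrivSqZeroExt.inlHom k k : k →+* DualNumber k)
  have hres : ∀ c, (dual Λ k).res (inl' c) = c := fun c => rfl
  have hεres : (dual Λ k).res ε = 0 := rfl
  have hεε : ε * ε = 0 := TrivSqZeroExt.inr_mul_inr k (1 : k) 1
  have hdec : ∀ a : (dual Λ k : Type u), a = inl' (TrivSqZeroExt.fst (a : DualNumber k)) + ε * inl' (TrivSqZeroExt.snd (a : DualNumber k)) := by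
    intro a
    have key : ∀ b : DualNumber k, b = TrivSqZeroExt.inl (TrivSqZeroExt.fst b) +
        (TrivSqZeroExt.inr (1 : k) : DualNumber k) * TrivSqZeroExt.inl (TrivSqZeroExt.snd b) := fun b => by
      refine TrivSqZeroExt.ext ?_ ?_ <;> simp
    exact key a
  have hσε : σ ε * σ ε = 0 := by rw [← map_mul, hεε, map_zero]
  have hm : IsLocalRing.maximalIdeal (dual Λ k) = Ideal.span {ε} := by
    refine le_antisymm (fun a ha => ?_) ((Ideal.span_singleton_le_iff_mem _).2 ((mem_maximalIdeal_iff _ _).2 hεres))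
    have h0 : TrivSqZeroExt.fst (a : DualNumber k) = 0 := (mem_maximalIdeal_iff _ a).1 ha
    rw [hdec a, h0, map_zero, zero_add]
    exact Ideal.mul_mem_right _ _ (Ideal.mem_span_singleton_self ε)
  have hmB : ∀ y : B, τ y = 0 → ∃ w, σ ε * w = y := fun y hy => by
    have h1 := (hτk y).1 hy
    rw [hm, Ideal.map_span, Set.image_singleton, Ideal.mem_span_singleton'] at h1
    obtain ⟨w, hw⟩ := h1
    exact ⟨w, by rw [mul_comm]; exact hw⟩
  have hτε : τ (σ ε) = 0 := (hτk _).2 (Ideal.mem_map_of_mem _ (by rw [hm]; exact Ideal.mem_span_singleton_self ε))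
  have hinj : ∀ w : B, σ ε * w = 0 → τ w = 0 := fun w hw => by
    letI := σ.hom.toAlgebra
    haveI : Module.Flat (dual Λ k) B := hflat
    refine (hτk w).2 (Deform85.mem_map_of_mul_eq_zero (A := (dual Λ k : Type u)) (t := ε) ?_ (fun a ha => ?_) hw)
    · intro h
      have := congrArg TrivSqZeroExt.snd (show (TrivSqZeroExt.inr (1 : k) : DualNumber k) = 0 from h)
      simp at this
    · rw [hm, Ideal.mem_span_singleton'] at ha
      obtain ⟨b, rfl⟩ := ha
      rw [mul_assoc, hεε, mul_zero]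
  choose b hb using fun i : Fin n => hτs (Ideal.Quotient.mk I (X i))
  let s : (Poly k n) →+* B := MvPolynomial.eval₂Hom (σ.hom.comp inl') b
  have hψ : σ ≫ τ = CommRingCat.ofHom ((algebraMap k ((Poly k n) ⧸ I)).comp (dual Λ k).res.toRingHom) := by
    refine Spec.map_injective ?_
    rw [Spec.map_comp, hσ, hτ, Category.assoc, Iso.hom_inv_id_assoc, ξ.i_f, ← Spec.map_comp]
    rfl
  have hτσ : ∀ a, τ (σ a) = algebraMap k ((Poly k n) ⧸ I) ((dual Λ k).res a) := fun a => congr($(hψ).hom a)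
  have hτsr : τ.hom.comp s = Ideal.Quotient.mk I := by
    refine MvPolynomial.ringHom_ext (fun c => ?_) fun i => ?_
    · simp only [RingHom.comp_apply, s, eval₂Hom_C]
      exact (hτσ _).trans (by rw [hres]; rfl)
    · simp only [RingHom.comp_apply, s, eval₂Hom_X']
      exact hb i
  have hτs' : ∀ c, τ (s c) = Ideal.Quotient.mk I c := fun c => congr($hτsr c)
  have hθ : ∀ a : I, ∃ y, σ ε * y = s a := fun a =>
    hmB _ (by rw [hτs']; exact Ideal.Quotient.eq_zero_iff_mem.2 a.2)
  choose y hy using hθ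
  have huniq : ∀ (a : I) y', σ ε * y' = s a → τ y' = τ (y a) := fun a y' h => by
    rw [← sub_eq_zero, ← map_sub]
    exact hinj _ (by rw [mul_sub, h, hy, sub_self])
  let φ : I →ₗ[(Poly k n)] (Poly k n) ⧸ I :=
    { toFun := fun a => - τ (y a)
      map_add' := fun a a' => by
        rw [← neg_add, ← map_add, huniq (a + a') (y a + y a')
          (by rw [mul_add, hy, hy, Submodule.coe_add, map_add])]
      map_smul' := fun c a => by
        rw [← huniq (c • a) (s c * y a) (by rw [mul_left_comm, hy, SetLike.val_smul, smul_eq_mul, map_mul]),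
          map_mul, hτs', RingHom.id_apply]
        exact (neg_mul_eq_mul_neg (Ideal.Quotient.mk I c) _).trans rfl }
  refine ⟨φ, ?_⟩
  let ev : Dual' k n (Fin 1) →+* B :=
    { toFun := fun z => s z.fst + σ ε * s (z.snd 0)
      map_one' := by simp
      map_zero' := by simp
      map_add' := fun z w => by simp only [TrivSqZeroExt.fst_add, TrivSqZeroExt.snd_add, Pi.add_apply, map_add]; ring
      map_mul' := fun z w => by
        simp only [TrivSqZeroExt.fst_mul, TrivSqZeroExt.snd_mul, Pi.add_apply, Pi.smul_apply, op_smul_eq_smul,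
          smul_eq_mul, map_add, map_mul]
        linear_combination (-(s (z.snd 0) * s (w.snd 0))) * hσε }
  have hev : defIdeal (fun _ : Fin 1 => φ) ≤ RingHom.ker ev := by
    rintro w ⟨hw, h2⟩
    show s w.fst + σ ε * s (w.snd 0) = 0
    have h3 : τ (y ⟨w.fst, hw⟩ + s (w.snd 0)) = 0 := by
      rw [map_add, hτs', ← h2 0]
      exact add_neg_cancel _
    obtain ⟨v, hv⟩ := hmB _ h3
    rw [← hy ⟨w.fst, hw⟩, ← mul_add, ← hv, ← mul_assoc, hσε, zero_mul]
  let h : CommRingCat.of (Dual' k n (Fin 1) ⧸ defIdeal (fun _ : Fin 1 => φ)) ⟶ B :=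
    CommRingCat.ofHom (Ideal.Quotient.lift (defIdeal (fun _ : Fin 1 => φ)) ev hev)
  have hσh : strMap (coord1 Λ k) (fun _ => φ) ≫ h = σ := CommRingCat.hom_ext (RingHom.ext fun a => by
    show ev (tC ((coord1 Λ k).θ a)) = σ a
    show s _ + σ ε * s _ = σ a
    rw [fst_tC, snd_tC, (coord1 Λ k).fst_θ, snd_coord1]
    conv_rhs => rw [hdec a, map_add, map_mul]
    simp only [s, eval₂Hom_C, RingHom.comp_apply]
    rfl)
  have hτh : h ≫ τ = fibMap (fun _ : Fin 1 => φ) := CommRingCat.hom_ext (RingHom.ext fun w => by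
    obtain ⟨w, rfl⟩ := Ideal.Quotient.mk_surjective w
    show τ (s w.fst + σ ε * s (w.snd 0)) = fibMap _ (Ideal.Quotient.mk _ w)
    rw [map_add, map_mul, hτε, zero_mul, add_zero, hτs', fibMap_mk])
  obtain ⟨α⟩ := exists_arrow_of_hom (g := 𝟙 (dual Λ k)) (ξ := mkDef (coord1 Λ k) fun _ => φ) (η := ξ)
    (ξ.total.isoSpec.hom ≫ Spec.map h) (by
      show (_ ≫ _) ≫ Spec.map (strMap _ _) = _
      rw [Category.assoc, ← Spec.map_comp, hσh, hσ, Iso.hom_inv_id_assoc, specMap_id, Category.comp_id]) (by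
      show ξ.i ≫ _ = Spec.map (fibMap _)
      rw [← hτh, Spec.map_comp, hτ, Category.assoc]
      rfl)
  have h' := α.map_cl
  rw [ArtF85.map_id_apply] at h'
  exact h'

end Groth.Agent.Def38
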