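import Groth.Agent.Def38.Tangent
import Mathlib

/-! Finiteness of the first-order deformations of an affine scheme with finitely many non-smooth points. -/

set_option autoImplicit false
set_option linter.style.haveILetI false
set_option backward.isDefEq.respectTransparency.types false

universe u

open MvPolynomial

noncomputable section

namespace Groth.Agent.Def38

variable {k : Type u} [Field k] {n : ℕ} {I : Ideal (Poly k n)}

/-- Taylor expansion to first order. -/
theorem taylor {R : Type u} [CommRing R] [Algebra k R] (f h : Poly k n →ₐ[k] R)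
    (hprod : ∀ i j, (f (X i) - h (X i)) * (f (X j) - h (X j)) = 0) (a : Poly k n) :
    f a - h a = ∑ i, f (pderiv i a) * (f (X i) - h (X i)) := by
  induction a using MvPolynomial.induction_on with
  | C c => simp [← MvPolynomial.algebraMap_eq]
  | add p q hp hq => simp only [map_add, add_mul, Finset.sum_add_distrib, ← hp, ← hq]; ring
  | mul_X p j hp =>
    set d : Fin n → R := fun i => f (X i) - h (X i)
    have h0 : (f p - h p) * d j = 0 := by
      rw [hp, Finset.sum_mul]
      exact Finset.sum_eq_zero fun i _ => by rw [mul_assoc, hprod, mul_zero]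
    have e1 : ∀ i, f (pderiv i (p * X j)) * d i =
        f (X j) * (f (pderiv i p) * d i) + if i = j then f p * d i else 0 := fun i => by
      rw [Derivation.leibniz, pderiv_X]
      rcases eq_or_ne i j with rfl | hij
      · simp; ring
      · simp [Pi.single_eq_of_ne, hij, hij.symm]; ring
    show f (p * X j) - h (p * X j) = ∑ i, f (pderiv i (p * X j)) * d i
    rw [Finset.sum_congr rfl fun i _ => e1 i, Finset.sum_add_distrib, ← Finset.mul_sum, ← hp,
      Finset.sum_ite_eq' Finset.univ j, if_pos (Finset.mem_univ j), map_mul, map_mul]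
    linear_combination (-1 : R) * h0

/-- The ring of the deformation attached to `φ`. -/
def DefRing (φ : I →ₗ[Poly k n] Poly k n ⧸ I) : Type u := Dual' k n (Fin 1) ⧸ defIdeal fun _ : Fin 1 => φ

instance (φ : I →ₗ[Poly k n] Poly k n ⧸ I) : CommRing (DefRing φ) :=
  inferInstanceAs (CommRing (Dual' k n (Fin 1) ⧸ defIdeal fun _ : Fin 1 => φ))

instance (φ : I →ₗ[Poly k n] Poly k n ⧸ I) : Algebra k (DefRing φ) :=
  inferInstanceAs (Algebra k (Dual' k n (Fin 1) ⧸ defIdeal fun _ : Fin 1 => φ))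

/-- The quotient map to `DefRing φ`. -/
def mkE (φ : I →ₗ[Poly k n] Poly k n ⧸ I) : Dual' k n (Fin 1) →ₐ[k] DefRing φ :=
  Ideal.Quotient.mkₐ k (defIdeal fun _ : Fin 1 => φ)

lemma mkE_surjective (φ : I →ₗ[Poly k n] Poly k n ⧸ I) : Function.Surjective (mkE φ) :=
  Ideal.Quotient.mk_surjective

lemma mkE_eq_mkE {φ : I →ₗ[Poly k n] Poly k n ⧸ I} {z w : Dual' k n (Fin 1)} :
    mkE φ z = mkE φ w ↔ z - w ∈ defIdeal fun _ : Fin 1 => φ := Ideal.Quotient.eq

lemma mkE_eq_zero {φ : I →ₗ[Poly k n] Poly k n ⧸ I} {z : Dual' k n (Fin 1)} :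
    mkE φ z = 0 ↔ z ∈ defIdeal fun _ : Fin 1 => φ := Ideal.Quotient.eq_zero_iff_mem

/-- The map to the closed fibre. -/
def fibE (φ : I →ₗ[Poly k n] Poly k n ⧸ I) : DefRing φ →ₐ[k] Poly k n ⧸ I :=
  Ideal.Quotient.liftₐ (defIdeal fun _ : Fin 1 => φ)
    ((Ideal.Quotient.mkₐ k I).comp ((TrivSqZeroExt.fstHom (Poly k n) (Poly k n) (Fin 1 → Poly k n)).restrictScalars k))
    fun _ hz => Ideal.Quotient.eq_zero_iff_mem.2 hz.1

lemma fibE_mkE (φ : I →ₗ[Poly k n] Poly k n ⧸ I) (z : Dual' k n (Fin 1)) :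
    fibE φ (mkE φ z) = Ideal.Quotient.mk I z.fst := rfl

/-- Where the scheme is formally smooth, homomorphisms come from derivations. -/
theorem exists_pow_smul_eq_delta (g : Poly k n)
    [Algebra.FormallySmooth k (Localization.Away (Ideal.Quotient.mk I g))]
    (φ : I →ₗ[Poly k n] Poly k n ⧸ I) : ∃ (N : ℕ) (v : Fin n → Poly k n), g ^ N • φ = delta I v := by
  classical
  let S := Localization.Away (Ideal.Quotient.mk I g)
  let γ : (DefRing φ) := mkE φ (TrivSqZeroExt.inl g)
  let R := Localization.Away γ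
  let τ : DefRing φ →ₐ[k] Poly k n ⧸ I := fibE φ
  have hτ : ∀ z : Dual' k n (Fin 1), τ (mkE φ z) = Ideal.Quotient.mk I z.fst := fun z => rfl
  have hγ : τ γ = Ideal.Quotient.mk I g := rfl
  let q₀ : (DefRing φ) →ₐ[k] S := (IsScalarTower.toAlgHom k (Poly k n ⧸ I) S).comp τ
  let q : R →ₐ[k] S := IsLocalization.liftAlgHom (M := Submonoid.powers γ) (f := q₀) fun y => by
    obtain ⟨m, hm⟩ := (Submonoid.mem_powers_iff _ _).1 y.2
    rw [← hm, map_pow]
    exact IsUnit.pow _ (IsLocalization.Away.algebraMap_isUnit (Ideal.Quotient.mk I g))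
  have hq : ∀ z : (DefRing φ), q (algebraMap _ R z) = algebraMap _ S (τ z) := fun z =>
    IsLocalization.lift_eq _ z
  have hqu : ∀ m : ℕ, IsUnit (algebraMap ((DefRing φ)) R (γ ^ m)) := fun m => by
    rw [map_pow (algebraMap (DefRing φ) R)]; exact IsUnit.pow _ (IsLocalization.Away.algebraMap_isUnit γ)
  let e : R := algebraMap ((DefRing φ)) R (mkE φ (TrivSqZeroExt.inr fun _ => 1))
  have hee : e * e = 0 := by
    rw [← map_mul, ← map_mul, TrivSqZeroExt.inr_mul_inr, map_zero, map_zero]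
  have hinl : ∀ w : (Dual' k n (Fin 1)), e * algebraMap ((DefRing φ)) R (mkE φ w) =
      algebraMap ((DefRing φ)) R (mkE φ (TrivSqZeroExt.inr fun _ => w.fst)) := fun w => by
    rw [← map_mul, ← map_mul]
    congr 2
    exact TrivSqZeroExt.ext (by simp) (funext fun _ => by simp)
  have hker : RingHom.ker (q : R →+* S) ≤ Ideal.span {e} := fun r hr => by
    obtain ⟨⟨x, s⟩, hx⟩ := IsLocalization.surj (Submonoid.powers γ) r
    obtain ⟨z, rfl⟩ := mkE_surjective φ x
    have h1 : algebraMap (Poly k n ⧸ I) S (Ideal.Quotient.mk I z.fst) = 0 := by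
      rw [← hτ, ← hq, ← hx, map_mul, show q r = 0 from hr, zero_mul]
    obtain ⟨⟨c, hc⟩, hc0⟩ := (IsLocalization.map_eq_zero_iff (Submonoid.powers (Ideal.Quotient.mk I g)) S _).1 h1
    obtain ⟨m, rfl⟩ := (Submonoid.mem_powers_iff _ _).1 hc
    have h2 : g ^ m * z.fst ∈ I := by
      rw [← Ideal.Quotient.eq_zero_iff_mem, map_mul, map_pow]; exact hc0
    obtain ⟨b, hb⟩ := Ideal.Quotient.mk_surjective (φ ⟨_, h2⟩)
    let w : (Dual' k n (Fin 1)) := TrivSqZeroExt.inl (g ^ m) * z
    have hw : w - TrivSqZeroExt.inr (fun _ => w.snd 0 - b) ∈ defIdeal fun _ : Fin 1 => φ :=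
      ⟨by simpa [w] using h2, fun i => by
        have e1 : (⟨(w - TrivSqZeroExt.inr (fun _ => w.snd 0 - b) : (Dual' k n (Fin 1))).fst, by simpa [w] using h2⟩ : I) = ⟨_, h2⟩ :=
          Subtype.ext (by simp [w])
        rw [e1, ← hb]
        simp [Subsingleton.elim i 0]⟩
    have h3 : algebraMap ((DefRing φ)) R (γ ^ m) * algebraMap ((DefRing φ)) R (mkE φ z) =
        e * algebraMap ((DefRing φ)) R (mkE φ (TrivSqZeroExt.inl (w.snd 0 - b))) := by
      rw [hinl, TrivSqZeroExt.fst_inl, ← map_mul, ← map_pow, ← map_mul, TrivSqZeroExt.inl_pow]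
      exact congrArg _ (mkE_eq_mkE.2 hw)
    rw [← hx, mul_comm r, ← mul_assoc] at h3
    obtain ⟨m', hm'⟩ := (Submonoid.mem_powers_iff _ _).1 s.2
    have hu : IsUnit (algebraMap ((DefRing φ)) R (γ ^ m) * algebraMap ((DefRing φ)) R s) := by
      rw [← hm']; exact (hqu m).mul (hqu m')
    rw [← Ideal.unit_mul_mem_iff_mem _ hu, h3]
    exact Ideal.mul_mem_right _ _ (Ideal.mem_span_singleton_self e)
  have hnil : IsNilpotent (RingHom.ker (q : R →+* S)) := by
    refine ⟨2, eq_bot_iff.2 ?_⟩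
    rw [pow_two]
    refine (Ideal.mul_mono hker hker).trans ?_
    rw [Ideal.span_singleton_mul_span_singleton, hee, Ideal.span_singleton_eq_bot.2 rfl]
  have hqs : Function.Surjective q := fun r => by
    obtain ⟨⟨x, ⟨c, hc⟩⟩, hx⟩ := IsLocalization.surj (Submonoid.powers (Ideal.Quotient.mk I g)) r
    obtain ⟨m, rfl⟩ := (Submonoid.mem_powers_iff _ _).1 hc
    obtain ⟨x, rfl⟩ := Ideal.Quotient.mk_surjective x
    have hu := hqu m
    refine ⟨algebraMap _ R (mkE φ (TrivSqZeroExt.inl x)) * ↑hu.unit⁻¹, ?_⟩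
    refine (IsLocalization.map_units S (⟨_, hc⟩ : Submonoid.powers (Ideal.Quotient.mk I g))).mul_left_inj.1 ?_
    rw [show algebraMap _ S (⟨_, hc⟩ : Submonoid.powers (Ideal.Quotient.mk I g)).1 = q (algebraMap _ R (γ ^ m)) by
      rw [hq, map_pow τ, hγ], ← map_mul, mul_assoc, IsUnit.val_inv_mul, mul_one, hq, hτ, TrivSqZeroExt.fst_inl]
    rw [hq, map_pow τ, hγ]
    exact hx.symm
  let sec : S →ₐ[k] R := Algebra.FormallySmooth.liftOfSurjective (AlgHom.id k S) q hqs hnil
  let f : Poly k n →ₐ[k] R :=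
    ((IsScalarTower.toAlgHom k ((DefRing φ)) R).comp (mkE φ)).comp (TrivSqZeroExt.inlAlgHom k (Poly k n) (Fin 1 → Poly k n))
  let h : Poly k n →ₐ[k] R := sec.comp ((IsScalarTower.toAlgHom k (Poly k n ⧸ I) S).comp (Ideal.Quotient.mkₐ k I))
  have hf : ∀ a, f a = algebraMap ((DefRing φ)) R (mkE φ (TrivSqZeroExt.inl a)) := fun a => rfl
  have hfg : ∀ m : ℕ, algebraMap (DefRing φ) R (γ ^ m) = f (g ^ m) := fun m => by rw [map_pow, map_pow]; rfl
  have hd : ∀ i, ∃ r, e * r = f (X i) - h (X i) := fun i => by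
    have : f (X i) - h (X i) ∈ RingHom.ker (q : R →+* S) := by
      show q (f (X i) - h (X i)) = 0
      rw [map_sub, hf, hq, hτ, TrivSqZeroExt.fst_inl, sub_eq_zero]
      exact (Algebra.FormallySmooth.liftOfSurjective_apply (AlgHom.id k S) q hqs hnil _).symm
    obtain ⟨r, hr⟩ := Ideal.mem_span_singleton'.1 (hker this)
    exact ⟨r, by rw [mul_comm]; exact hr⟩
  choose r hr using hd
  obtain ⟨⟨c, hc⟩, hint⟩ := IsLocalization.exist_integer_multiples_of_finite (Submonoid.powers γ) r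
  obtain ⟨N, rfl⟩ := (Submonoid.mem_powers_iff _ _).1 hc
  have hint' : ∀ i, ∃ v : Poly k n, algebraMap ((DefRing φ)) R (γ ^ N) * (e * r i) = algebraMap ((DefRing φ)) R
      (mkE φ (TrivSqZeroExt.inr fun _ => v)) := fun i => by
    obtain ⟨y, hy⟩ := hint i
    obtain ⟨w, rfl⟩ := mkE_surjective φ y
    refine ⟨w.fst, ?_⟩
    rw [← hinl, hy, Algebra.smul_def]
    ring
  choose v hv using hint'
  let ψ : I →ₗ[Poly k n] Poly k n ⧸ I := g ^ N • φ + delta I v
  have key : ∀ a : I, ∃ M : ℕ, g ^ M • ψ a = 0 := fun a => by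
    let s : Poly k n := ∑ i, pderiv i a.1 * v i
    let W : (Dual' k n (Fin 1)) := TrivSqZeroExt.inl (g ^ N * a.1) - TrivSqZeroExt.inr fun _ => s
    have hW : algebraMap ((DefRing φ)) R (mkE φ W) = 0 := by
      rw [map_sub, map_sub, sub_eq_zero]
      have ht := taylor f h (fun i j => by rw [← hr, ← hr, mul_mul_mul_comm, hee, zero_mul]) a.1
      have ha0 : h a.1 = 0 := by
        show sec (algebraMap (Poly k n ⧸ I) S (Ideal.Quotient.mk I a.1)) = 0
        rw [Ideal.Quotient.eq_zero_iff_mem.2 a.2, map_zero, map_zero]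
      rw [ha0, sub_zero] at ht
      have e1 : TrivSqZeroExt.inr (fun _ : Fin 1 => s) =
          ∑ i, TrivSqZeroExt.inl (pderiv i a.1) * (TrivSqZeroExt.inr fun _ => v i : (Dual' k n (Fin 1))) :=
        TrivSqZeroExt.ext (by simp [TrivSqZeroExt.fst_sum]) (funext fun _ => by
          simp [s, TrivSqZeroExt.snd_sum, Finset.sum_apply])
      rw [TrivSqZeroExt.inl_mul, map_mul, map_mul, ← hf a.1, ht, Finset.mul_sum, e1, map_sum, map_sum]
      refine Finset.sum_congr rfl fun i _ => ?_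
      rw [map_mul, map_mul, ← hv, hr, hfg]
      simp only [← hf]
      ring
    obtain ⟨⟨c, hc⟩, hc0⟩ := (IsLocalization.map_eq_zero_iff (Submonoid.powers γ) R _).1 hW
    obtain ⟨M, rfl⟩ := (Submonoid.mem_powers_iff _ _).1 hc
    refine ⟨M, ?_⟩
    have hmem : TrivSqZeroExt.inl (g ^ M) * W ∈ defIdeal fun _ : Fin 1 => φ := by
      rw [← mkE_eq_zero, map_mul, ← TrivSqZeroExt.inl_pow, map_pow]
      exact hc0
    obtain ⟨h1, h2⟩ := hmem
    have e2 : (⟨(TrivSqZeroExt.inl (g ^ M) * W : (Dual' k n (Fin 1))).fst, h1⟩ : I) = g ^ M • (g ^ N • a) :=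
      Subtype.ext (by simp [W])
    have h3 := h2 0
    rw [e2, map_smul, map_smul] at h3
    simp only [ψ, LinearMap.add_apply, LinearMap.smul_apply, smul_add, h3, delta_apply]
    rw [show g ^ M • Ideal.Quotient.mk I (∑ i, pderiv i a.1 * v i) = Ideal.Quotient.mk I (g ^ M * s) from rfl, ← map_add]
    simp [W]
  obtain ⟨G, hG⟩ := (IsNoetherian.noetherian I : I.FG)
  have key' : ∀ a : I, ∃ M, ∀ M' ≥ M, g ^ M' • ψ a = 0 := fun a => by
    obtain ⟨M, hM⟩ := key a
    exact ⟨M, fun M' hM' => by rw [← Nat.sub_add_cancel hM', pow_add, mul_smul, hM, smul_zero]⟩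
  choose M hM using key'
  have hsub : ∀ x ∈ G, x ∈ I := fun x hx => hG ▸ Submodule.subset_span hx
  let M₀ := G.attach.sup fun x => M ⟨x.1, hsub _ x.2⟩
  have hψ : g ^ M₀ • ψ = 0 := by
    ext ⟨a, ha⟩
    suffices ∀ a (ha : a ∈ Submodule.span (Poly k n) (G : Set (Poly k n))), (g ^ M₀ • ψ) ⟨a, hG ▸ ha⟩ = 0 from
      this a (hG.symm ▸ ha)
    intro a ha
    induction ha using Submodule.span_induction with
    | mem x hx => exact hM _ _ (Finset.le_sup (f := fun x : G => M ⟨x.1, hsub _ x.2⟩) (Finset.mem_attach _ ⟨x, hx⟩))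
    | zero => exact map_zero _
    | add x y hx hy h1 h2 => exact ((g ^ M₀ • ψ).map_add ⟨x, hG ▸ hx⟩ ⟨y, hG ▸ hy⟩).trans (by rw [h1, h2, add_zero])
    | smul c x hx h1 => exact ((g ^ M₀ • ψ).map_smul c ⟨x, hG ▸ hx⟩).trans (by rw [h1, smul_zero])
  refine ⟨M₀ + N, -(g ^ M₀ • v), ?_⟩
  rw [map_neg, map_smul, pow_add, mul_smul, eq_neg_iff_add_eq_zero, ← smul_add]
  exact hψ

/-- The first-order deformations modulo the trivial ones. -/
abbrev T1 (I : Ideal (Poly k n)) : Type u := (I →ₗ[Poly k n] Poly k n ⧸ I) ⧸ LinearMap.range (delta I)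

/-- They are finite-dimensional if there are only finitely many non-smooth points. -/
theorem finite_T1 (hfin : {p : PrimeSpectrum (Poly k n ⧸ I) | ¬ ∃ g ∉ p.asIdeal,
    Algebra.FormallySmooth k (Localization.Away g)}.Finite) : Module.Finite k (T1 I) := by
  set bad := {p : PrimeSpectrum (Poly k n ⧸ I) | ¬ ∃ g ∉ p.asIdeal, Algebra.FormallySmooth k (Localization.Away g)}
  set P := Poly k n
  haveI : IsNoetherianRing P := inferInstance
  haveI : Module.Finite P (T1 I) := inferInstance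
  have hsupp : Module.support P (T1 I) ⊆ PrimeSpectrum.comap (Ideal.Quotient.mk I) '' bad := by
    intro p hp
    by_contra hnot
    refine (Module.notMem_support_iff'.2 fun x => ?_) hp
    obtain ⟨φ, rfl⟩ := Submodule.Quotient.mk_surjective _ x
    by_cases hI : I ≤ p.asIdeal
    · have hp' : p ∈ Set.range (PrimeSpectrum.comap (Ideal.Quotient.mk I)) := by
        rw [range_comap_of_surjective _ _ Ideal.Quotient.mk_surjective, Ideal.mk_ker]
        exact hI
      obtain ⟨p', rfl⟩ := hp'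
      obtain ⟨g, hg, hfs⟩ := not_not.1 fun h => hnot ⟨p', h, rfl⟩
      obtain ⟨g, rfl⟩ := Ideal.Quotient.mk_surjective g
      obtain ⟨N, v, hv⟩ := exists_pow_smul_eq_delta g φ
      refine ⟨g ^ N, fun h => hg ((PrimeSpectrum.comap (Ideal.Quotient.mk I) p').isPrime.mem_of_pow_mem N h), ?_⟩
      rw [← Submodule.Quotient.mk_smul, Submodule.Quotient.mk_eq_zero]
      exact ⟨v, hv.symm⟩
    · obtain ⟨a, haI, hap⟩ := SetLike.not_le_iff_exists.1 hI
      refine ⟨a, hap, ?_⟩
      rw [← Submodule.Quotient.mk_smul]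
      refine (congrArg _ ?_).trans (Submodule.Quotient.mk_zero _)
      ext b
      obtain ⟨c, hc⟩ := Ideal.Quotient.mk_surjective (φ b)
      rw [LinearMap.smul_apply, LinearMap.zero_apply, ← hc]
      exact Ideal.Quotient.eq_zero_iff_mem.2 (I.mul_mem_right c haI)
  set 𝔞 := Module.annihilator P (T1 I)
  haveI : Finite (PrimeSpectrum (P ⧸ 𝔞)) := by
    have hf : (PrimeSpectrum.zeroLocus (𝔞 : Set P)).Finite := by
      rw [← Module.support_eq_zeroLocus]
      exact (hfin.image _).subset hsupp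
    have : (Set.range (PrimeSpectrum.comap (Ideal.Quotient.mk 𝔞))).Finite := by
      rwa [range_comap_of_surjective _ _ Ideal.Quotient.mk_surjective, Ideal.mk_ker]
    haveI := this.to_subtype
    exact Finite.of_injective (Set.rangeFactorization (PrimeSpectrum.comap (Ideal.Quotient.mk 𝔞)))
      fun a b h => PrimeSpectrum.comap_injective_of_surjective _ Ideal.Quotient.mk_surjective (congrArg Subtype.val h)
  haveI : IsJacobsonRing (P ⧸ 𝔞) := inferInstance
  haveI : Ring.KrullDimLE 0 (P ⧸ 𝔞) :=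
    (PrimeSpectrum.discreteTopology_iff_finite_and_krullDimLE_zero.1 inferInstance).2
  haveI : IsArtinianRing (P ⧸ 𝔞) := isArtinianRing_iff_isNoetherianRing_krullDimLE_zero.2 ⟨inferInstance, inferInstance⟩
  haveI : Module.Finite k (P ⧸ 𝔞) := Module.finite_of_isArtinianRing k (P ⧸ 𝔞)
  obtain ⟨t, ht⟩ := Module.Finite.exists_fin (R := P) (M := T1 I)
  obtain ⟨q, hq⟩ := ht
  let L : (Fin t → P ⧸ 𝔞) →ₗ[k] T1 I :=
    ∑ i, ((Submodule.liftQ 𝔞 (LinearMap.toSpanSingleton P (T1 I) (q i))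
      fun a ha => Module.mem_annihilator.1 ha (q i)).restrictScalars k).comp (LinearMap.proj i)
  exact Module.Finite.of_surjective L fun x => by
    have : x ∈ Submodule.span P (Set.range q) := hq ▸ Submodule.mem_top
    obtain ⟨c, hc⟩ := (Submodule.mem_span_range_iff_exists_fun P).1 this
    refine ⟨fun i => Ideal.Quotient.mk 𝔞 (c i), ?_⟩
    rw [← hc]
    simp [L]
    rfl

end Groth.Agent.Def38
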